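import Cfsg.Agent.Lib.Helper17.Off4
import Cfsg.Agent.Lib.Helper5.Thomp2
import Cfsg.Agent.Lib.Helper5.ZJFun

set_option autoImplicit false

namespace Cfsg.Agent.Lib.Helper17

open Cfsg Cfsg.Agent.Lib.Helper5
open scoped commutatorElement

universe u

variable {p : ℕ}

theorem jA_char [Fact p.Prime] : IsCharPFunctor.{u} p jA := by
  constructor
  · intro Q _ _ hQ hnt h
    have h1 := IsPGroup.bot_lt_center hQ
    obtain ⟨A, hA⟩ := maxAb_nonempty (X := Q)
    have h2 : Subgroup.center Q ≤ jA Q :=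
      (center_le_zjA (Q := Q)).trans ((sInf_le hA).trans (le_sSup hA))
    rw [h] at h2
    exact absurd (lt_of_lt_of_le h1 h2) (lt_irrefl _)
  · intro Q R _ _ _ _ φ
    unfold jA
    rw [← image_maxAb_equiv φ, sSup_image]
    exact (Subgroup.gc_map_comap φ.toMonoidHom).l_sSup

theorem iF_jA {X : Type u} [Group X] (D : Subgroup X) :
    inducedFunctor jA D = thompsonSubgroupAOf D := rfl

abbrev commQ {X : Type u} [Group X] : Subgroup X → Prop := fun A => IsMulCommutative A

/-- Frattini argument for the abelian Thompson subgroup. -/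
theorem normalizer_thompsonA_sup_eq_top [Fact p.Prime] {X : Type u} [Group X] [Finite X]
    (T : Sylow p X) (C : Subgroup X) [C.Normal] (hJ : thompsonSubgroupAOf (T : Subgroup X) ≤ C) :
    Subgroup.normalizer (thompsonSubgroupAOf (T : Subgroup X) : Set X) ⊔ C = ⊤ := by
  obtain ⟨A₁, hA₁⟩ := maxQ_nonempty (Q := fun A : Subgroup X => IsMulCommutative A)
    (inferInstance : IsMulCommutative (⊥ : Subgroup X)) (T : Subgroup X)
  have hAJ : ∀ A ∈ maxQ (fun A : Subgroup X => IsMulCommutative A) (T : Subgroup X),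
      A ≤ thompsonSubgroupAOf (T : Subgroup X) := by
    intro A hA
    rw [thompsonSubgroupAOf_eq]
    exact le_sSup hA
  have hJ2 : thompsonSubgroupAOf ((T : Subgroup X) ⊓ C) =
      thompsonSubgroupAOf (T : Subgroup X) := by
    rw [thompsonSubgroupAOf_eq, thompsonSubgroupAOf_eq]
    congr 1
    ext A
    constructor
    · intro hA
      exact (maxQ_of_le hA₁ (le_inf hA₁.1 ((hAJ A₁ hA₁).trans hJ)) inf_le_left).2 A hA
    · intro hA
      exact (maxQ_of_le hA (le_inf hA.1 ((hAJ A hA).trans hJ)) inf_le_left).1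
  obtain ⟨P, hP⟩ := exists_sylow_subgroupOf_normal T C
  have hfr := Sylow.normalizer_sup_eq_top P
  rw [hP, Subgroup.subgroupOf_map_subtype] at hfr
  rw [eq_top_iff, ← hfr]
  apply sup_le_sup_right
  have := normalizer_le_iF (jA_char (p := p)) (X := X) (D := (T : Subgroup X) ⊓ C)
    (T.2.to_le inf_le_left)
  rw [iF_jA, hJ2] at this
  exact this

theorem final_of_sup_eq_top [Fact p.Prime] {X : Type u} [Group X] [Finite X] (T : Sylow p X)
    (h2 : NPC p (Subgroup.centralizer
      (((T : Subgroup X) ⊓ Subgroup.centralizer ((T : Subgroup X) : Set X) : Subgroup X) : Set X)))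
    (hc : Subgroup.centralizer (pCore p X : Set X) ≤ pCore p X) (hq : NPC p (X ⧸ pCore p X))
    (hco : IsCoatom (T : Subgroup X)) (W : Subgroup X)
    (hZW : ∀ z ∈ (T : Subgroup X) ⊓ Subgroup.centralizer ((T : Subgroup X) : Set X),
      z ^ p = 1 → z ∈ W)
    (htop : (T : Subgroup X) ⊔ Subgroup.centralizer (W : Set X) = ⊤) : NPC p X := by
  apply npc_of_omegaZ_central T (pCore p X) Cfsg.Agent.Lib.Helper5.pCore_isPGroup hc hq hco ?_ h2
  intro z hz hzp x
  obtain ⟨hzT, hzc⟩ := Subgroup.mem_inf.mp hz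
  have hzW : z ∈ W := hZW z hz hzp
  have h3 : (⊤ : Subgroup X) ≤ Subgroup.centralizer ({z} : Set X) := by
    rw [← htop]
    apply sup_le
    · intro t ht
      rw [Subgroup.mem_centralizer_iff]
      rintro _ rfl
      exact (Subgroup.mem_centralizer_iff.mp hzc t ht).symm
    · exact Subgroup.centralizer_le (Set.singleton_subset_iff.mpr hzW)
  exact (Subgroup.mem_centralizer_iff.mp (h3 (Subgroup.mem_top x)) z rfl).symm

theorem final_of_normal [Fact p.Prime] {X : Type u} [Group X] [Finite X] (T : Sylow p X)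
    (h1 : NPC p (Subgroup.normalizer (thompsonSubgroupAOf (T : Subgroup X) : Set X)))
    (h2 : NPC p (Subgroup.centralizer
      (((T : Subgroup X) ⊓ Subgroup.centralizer ((T : Subgroup X) : Set X) : Subgroup X) : Set X)))
    (hc : Subgroup.centralizer (pCore p X : Set X) ≤ pCore p X) (hq : NPC p (X ⧸ pCore p X))
    (hco : IsCoatom (T : Subgroup X)) (W : Subgroup X) [W.Normal]
    (hZW : ∀ z ∈ (T : Subgroup X) ⊓ Subgroup.centralizer ((T : Subgroup X) : Set X),
      z ^ p = 1 → z ∈ W)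
    (hJW : thompsonSubgroupAOf (T : Subgroup X) ≤ Subgroup.centralizer (W : Set X)) :
    NPC p X := by
  have hfr := normalizer_thompsonA_sup_eq_top T (Subgroup.centralizer (W : Set X)) hJW
  have hTN : (T : Subgroup X) ≤
      Subgroup.normalizer (thompsonSubgroupAOf (T : Subgroup X) : Set X) :=
    Subgroup.le_normalizer.trans (normalizer_le_iF (jA_char (p := p)) T.2)
  by_cases hN : Subgroup.normalizer (thompsonSubgroupAOf (T : Subgroup X) : Set X) ≤ T
  · apply final_of_sup_eq_top T h2 hc hq hco W hZW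
    rw [eq_top_iff, ← hfr]
    exact sup_le_sup_right hN _
  · exact NPC.of_top (eq_top_of_coatom_of_not_le hco hTN hN) h1

theorem mem_of_mem_maxQ_comm {X : Type u} [Group X] [Finite X] {P A : Subgroup X}
    (hA : A ∈ maxQ (fun A : Subgroup X => IsMulCommutative A) P) {z : X} (hzP : z ∈ P)
    (hzA : z ∈ Subgroup.centralizer (A : Set X)) : z ∈ A := by
  have h1 := hA.2.2 _ (sup_le hA.1 (Subgroup.zpowers_le.mpr hzP)) (comm_sup_zpowers hA.2.1 hzA)
  have h2 : A = A ⊔ Subgroup.zpowers z := Subgroup.eq_of_le_of_card_ge le_sup_left h1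
  rw [h2]
  exact Subgroup.mem_sup_right (Subgroup.mem_zpowers z)

theorem final_thompsonA_odd [Fact p.Prime] (hp : p ≠ 2) {X : Type u} [Group X] [Finite X]
    (T : Sylow p X)
    (h1 : NPC p (Subgroup.normalizer (thompsonSubgroupAOf (T : Subgroup X) : Set X)))
    (h2 : NPC p (Subgroup.centralizer
      (((T : Subgroup X) ⊓ Subgroup.centralizer ((T : Subgroup X) : Set X) : Subgroup X) : Set X)))
    (hc : Subgroup.centralizer (pCore p X : Set X) ≤ pCore p X) (hq : NPC p (X ⧸ pCore p X))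
    (hco : IsCoatom (T : Subgroup X)) : NPC p X := by
  haveI hWn : (sInf (maxQ (fun A : Subgroup X => IsMulCommutative A) (T : Subgroup X))).Normal :=
    zj_normal hp _ (fun _ h => h) inferInstance (fun σ A hA => comm_map _ hA)
      (fun _ _ _ hT _ => hT) hc T (fun V _ hV a _ hq' =>
        (serClass_of_final hq T hco).stable hp V hV a hq')
  apply final_of_normal T h1 h2 hc hq hco
    (sInf (maxQ (fun A : Subgroup X => IsMulCommutative A) (T : Subgroup X)))
  · intro z hz _
    rw [Subgroup.mem_sInf]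
    intro A hA
    exact mem_of_mem_maxQ_comm hA hz.1
      (Subgroup.centralizer_le (SetLike.coe_subset_coe.mpr hA.1) hz.2)
  · rw [thompsonSubgroupAOf_eq]
    apply sSup_le
    intro A hA
    have hAc := hA.2.1
    intro a ha
    rw [Subgroup.mem_centralizer_iff]
    intro w hw
    exact setLike_mul_comm ((sInf_le hA : sInf _ ≤ A) hw) ha

/-- Thompson's inequality: a largest abelian subgroup of `T` is an offender on a normal abelian
subgroup `V ≤ T`. -/
theorem thompson_offender {X : Type u} [Group X] [Finite X] {T A₀ V : Subgroup X}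
    (hA₀ : A₀ ∈ maxQ (fun A : Subgroup X => IsMulCommutative A) T) (hVT : V ≤ T)
    (hV : IsMulCommutative V) (hAV : A₀ ≤ Subgroup.normalizer (V : Set X)) :
    Nat.card ↥(A₀ ⊓ Subgroup.centralizer (V : Set X)) * Nat.card V ≤
      Nat.card A₀ * Nat.card ↥(V ⊓ Subgroup.centralizer (A₀ : Set X)) := by
  have hA₀c := hA₀.2.1
  have hB : IsMulCommutative ↥((A₀ ⊓ Subgroup.centralizer (V : Set X)) ⊔ V) :=
    comm_sup (comm_of_le inf_le_left hA₀c) hV (Subgroup.le_centralizer_iff.mp inf_le_right)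
  have h1 := hA₀.2.2 _ (sup_le (inf_le_left.trans hA₀.1) hVT) hB
  have h2 := card_sup_mul_card_inf (A₀ ⊓ Subgroup.centralizer (V : Set X)) V
    (inf_le_left.trans hAV)
  have h3 : (A₀ ⊓ Subgroup.centralizer (V : Set X)) ⊓ V ≤
      V ⊓ Subgroup.centralizer (A₀ : Set X) := by
    intro y hy
    refine ⟨hy.2, ?_⟩
    show y ∈ Subgroup.centralizer (A₀ : Set X)
    rw [Subgroup.mem_centralizer_iff]
    intro a ha
    exact setLike_mul_comm ha hy.1.1
  rw [← h2]
  exact Nat.mul_le_mul h1 (Subgroup.card_le_of_le h3)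

/-- faithful action of `T` on `N/C` when `O_p(X) ≤ C ≤ T`. -/
theorem mem_of_centralizes_quot [Fact p.Prime] {X : Type u} [Group X] [Finite X] (T : Sylow p X)
    (C N : Subgroup X) [hCn : C.Normal] [hNn : N.Normal] (hCT : C ≤ (T : Subgroup X))
    (hidx : ∃ k, N.index = p ^ k) {a : X} (haT : a ∈ (T : Subgroup X))
    (ha : ∀ n ∈ N, a * n * a⁻¹ * n⁻¹ ∈ C) : a ∈ pCore p X := by
  haveI : (N.map (QuotientGroup.mk' C)).Normal := hNn.map _ (QuotientGroup.mk'_surjective C)
  set B := (Subgroup.centralizer ((N.map (QuotientGroup.mk' C) : Subgroup (X ⧸ C)) :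
    Set (X ⧸ C))).comap (QuotientGroup.mk' C) with hB
  haveI hBn : B.Normal := inferInstance
  have hmemB : ∀ g, g ∈ B ↔ ∀ n ∈ N, g * n * g⁻¹ * n⁻¹ ∈ C := by
    intro g
    rw [hB, Subgroup.mem_comap, Subgroup.mem_centralizer_iff]
    constructor
    · intro h n hn
      have h1 := h _ ⟨n, hn, rfl⟩
      rw [← QuotientGroup.eq_one_iff]
      have h2 : ((g * n * g⁻¹ * n⁻¹ : X) : X ⧸ C) = QuotientGroup.mk' C g * QuotientGroup.mk' C n *
          (QuotientGroup.mk' C g)⁻¹ * (QuotientGroup.mk' C n)⁻¹ := rfl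
      rw [h2, ← h1]; group
    · rintro h _ ⟨n, hn, rfl⟩
      have h1 := (QuotientGroup.eq_one_iff _).mpr (h n hn)
      have h2 : ((g * n * g⁻¹ * n⁻¹ : X) : X ⧸ C) = QuotientGroup.mk' C g * QuotientGroup.mk' C n *
          (QuotientGroup.mk' C g)⁻¹ * (QuotientGroup.mk' C n)⁻¹ := rfl
      rw [h2] at h1
      calc QuotientGroup.mk' C n * QuotientGroup.mk' C g
          = (QuotientGroup.mk' C g * QuotientGroup.mk' C n *
            (QuotientGroup.mk' C g)⁻¹ * (QuotientGroup.mk' C n)⁻¹)⁻¹ *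
            (QuotientGroup.mk' C g * QuotientGroup.mk' C n) := by group
        _ = _ := by rw [h1, inv_one, one_mul]
  have hCB : C ≤ B := by
    intro c hc
    rw [hmemB]
    intro n hn
    have e : c * n * c⁻¹ * n⁻¹ = c * (n * c⁻¹ * n⁻¹) := by group
    rw [e]
    exact C.mul_mem hc (hCn.conj_mem _ (C.inv_mem hc) n)
  set D := (T : Subgroup X) ⊓ B with hD
  have hTD : (T : Subgroup X) ≤ Subgroup.normalizer (D : Set X) :=
    Cfsg.Agent.Lib.Helper17.le_normalizer_inf Subgroup.le_normalizer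
      (by rw [Subgroup.normalizer_eq_top_iff.mpr hBn]; exact le_top)
  have hND : N ≤ Subgroup.normalizer (D : Set X) := by
    apply Cfsg.Agent.Lib.Helper17.le_normalizer_of_conj_mem
    intro n hn d hd
    have h1 : d * n * d⁻¹ * n⁻¹ ∈ C := (hmemB d).mp hd.2 n hn
    have e : n * d * n⁻¹ = (d * n * d⁻¹ * n⁻¹)⁻¹ * d := by group
    rw [e]
    exact D.mul_mem (D.inv_mem ⟨hCT h1, hCB h1⟩) hd
  have hDn : D.Normal := by
    rw [← Subgroup.normalizer_eq_top_iff, eq_top_iff, ← sup_sylow_eq_top N hidx T]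
    exact sup_le hND hTD
  exact Cfsg.Agent.Lib.Helper5.le_pCore hDn (T.2.to_le inf_le_left) ⟨haT, (hmemB a).mpr ha⟩

theorem final_thompsonA_two {X : Type u} [Group X] [Finite X]
    (hS4 : ¬ Involves (Equiv.Perm (Fin 4)) X) (T : Sylow 2 X)
    (h1 : NPC 2 (Subgroup.normalizer (thompsonSubgroupAOf (T : Subgroup X) : Set X)))
    (h2 : NPC 2 (Subgroup.centralizer
      (((T : Subgroup X) ⊓ Subgroup.centralizer ((T : Subgroup X) : Set X) : Subgroup X) : Set X)))
    (hc : Subgroup.centralizer (pCore 2 X : Set X) ≤ pCore 2 X) (hq : NPC 2 (X ⧸ pCore 2 X))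
    (hco : IsCoatom (T : Subgroup X)) : NPC 2 X := by
  by_contra hnpc
  obtain ⟨H, hH⟩ : ∃ H, H = pCore 2 X := ⟨_, rfl⟩
  haveI hHn : H.Normal := by rw [hH]; infer_instance
  have hHT : H ≤ (T : Subgroup X) := by rw [hH]; exact Cfsg.Agent.Lib.Helper5.pCore_le_sylow T
  obtain ⟨Z, hZ⟩ : ∃ Z, Z = H ⊓ Subgroup.centralizer (H : Set X) := ⟨_, rfl⟩
  haveI hZn : Z.Normal := by rw [hZ]; infer_instance
  have hZab : IsMulCommutative Z := by rw [hZ]; exact comm_inf_centralizer H
  obtain ⟨V, hVdef⟩ : ∃ V, V = omegaOne 2 Z := ⟨_, rfl⟩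
  haveI hVn : V.Normal := by rw [hVdef]; exact omegaOne_normal Z
  have hVel : IsElementaryAbelian 2 V := by rw [hVdef]; exact elemAb_omegaOne hZab
  have hVZ : V ≤ Z := by rw [hVdef]; exact Cfsg.Agent.Lib.Helper5.omegaOne_le Z
  have hVH : V ≤ H := hVZ.trans (hZ ▸ inf_le_left)
  have hHC : H ≤ Subgroup.centralizer (V : Set X) :=
    Subgroup.le_centralizer_iff.mp (hVZ.trans (hZ ▸ inf_le_right))
  have hZW : ∀ z ∈ (T : Subgroup X) ⊓ Subgroup.centralizer ((T : Subgroup X) : Set X),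
      z ^ 2 = 1 → z ∈ V := by
    intro z hz hz2
    have h5 : z ∈ Subgroup.centralizer (H : Set X) :=
      Subgroup.centralizer_le (SetLike.coe_subset_coe.mpr hHT) hz.2
    rw [hVdef]
    apply mem_omegaOne _ hz2
    rw [hZ]
    exact ⟨by rw [hH]; exact hc (hH ▸ h5), h5⟩
  have hCT : Subgroup.centralizer (V : Set X) ≤ (T : Subgroup X) := by
    by_contra h
    apply hnpc
    apply final_of_sup_eq_top T h2 hc hq hco V hZW
    exact hco.2 _ (lt_of_le_of_ne le_sup_left (fun e => h (e ▸ le_sup_right)))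
  have hCp : IsPGroup 2 (Subgroup.centralizer (V : Set X)) := T.2.to_le hCT
  have hJ : ¬ thompsonSubgroupAOf (T : Subgroup X) ≤ Subgroup.centralizer (V : Set X) :=
    fun h => hnpc (final_of_normal T h1 h2 hc hq hco V hZW h)
  rw [thompsonSubgroupAOf_eq] at hJ
  obtain ⟨A₀, hA₀, hA₀C⟩ : ∃ A₀ ∈ maxQ (fun A : Subgroup X => IsMulCommutative A) (T : Subgroup X),
      ¬ A₀ ≤ Subgroup.centralizer (V : Set X) := by
    by_contra hh
    push Not at hh
    exact hJ (sSup_le hh)
  obtain ⟨Nb, hNbn, hNbc, k, hk⟩ := hq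
  have hs := QuotientGroup.mk'_surjective (pCore 2 X)
  obtain ⟨N, hN⟩ : ∃ N, N = Nb.comap (QuotientGroup.mk' (pCore 2 X)) := ⟨_, rfl⟩
  haveI hNn : N.Normal := by rw [hN]; exact hNbn.comap _
  have hNidx : N.index = 2 ^ k := by rw [hN, Subgroup.index_comap_of_surjective _ hs, hk]
  have hrel : ((pCore 2 X).relIndex N).Coprime 2 := by
    rw [relIndex_eq_card_map, hN, Subgroup.map_comap_eq_self_of_surjective hs]; exact hNbc
  have hnV : ∀ K : Subgroup X, K ≤ Subgroup.normalizer (V : Set X) := by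
    intro K
    rw [Subgroup.normalizer_eq_top_iff.mpr hVn]; exact le_top
  apply hS4
  refine involves_perm4_of_offender V hVel hCp N
    (Nat.Coprime.coprime_dvd_left (Subgroup.relIndex_dvd_of_le_left N (hH ▸ hHC)) hrel)
    A₀ (T.2.to_le hA₀.1) hA₀.2.1 hA₀C
    (thompson_offender hA₀ (hVH.trans hHT) hVel.1 (hnV A₀)) ?_
  intro a ha han
  exact hHC (hH ▸ mem_of_centralizes_quot T (Subgroup.centralizer (V : Set X)) N hCT ⟨k, hNidx⟩
    (hA₀.1 ha) han)

end Cfsg.Agent.Lib.Helper17
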