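import Cfsg.Agent.Lib.Helper17.ThA
import Cfsg.Agent.Lib.Helper1.Fitting

set_option autoImplicit false

namespace Cfsg.Agent.Lib.Helper17

open Cfsg Cfsg.Agent.Lib.Helper5
open scoped commutatorElement

universe u

theorem mem_comap_centralizer_map_iff {X : Type*} [Group X] (C N : Subgroup X) [hCn : C.Normal]
    (g : X) :
    g ∈ (Subgroup.centralizer ((N.map (QuotientGroup.mk' C) : Subgroup (X ⧸ C)) :
      Set (X ⧸ C))).comap (QuotientGroup.mk' C) ↔ ∀ n ∈ N, g * n * g⁻¹ * n⁻¹ ∈ C := by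
  rw [Subgroup.mem_comap, Subgroup.mem_centralizer_iff]
  constructor
  · intro h n hn
    have h1 := h _ ⟨n, hn, rfl⟩
    rw [← QuotientGroup.eq_one_iff]
    have h2 : ((g * n * g⁻¹ * n⁻¹ : X) : X ⧸ C) = QuotientGroup.mk' C g * QuotientGroup.mk' C n *
        (QuotientGroup.mk' C g)⁻¹ * (QuotientGroup.mk' C n)⁻¹ := rfl
    rw [h2, ← h1]; group
  · rintro h _ ⟨n, hn, rfl⟩
    have h1 := (QuotientGroup.eq_one_iff _).mpr (h n hn)
    have h2 : ((g * n * g⁻¹ * n⁻¹ : X) : X ⧸ C) = QuotientGroup.mk' C g * QuotientGroup.mk' C n *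
        (QuotientGroup.mk' C g)⁻¹ * (QuotientGroup.mk' C n)⁻¹ := rfl
    rw [h2] at h1
    calc QuotientGroup.mk' C n * QuotientGroup.mk' C g
        = (QuotientGroup.mk' C g * QuotientGroup.mk' C n *
          (QuotientGroup.mk' C g)⁻¹ * (QuotientGroup.mk' C n)⁻¹)⁻¹ *
          (QuotientGroup.mk' C g * QuotientGroup.mk' C n) := by group
      _ = _ := by rw [h1, inv_one, one_mul]

/-- dual Hall–Higman for solvable groups -/
theorem centralizer_pPrimeCore_le {M : Type*} [Group M] [Finite M] [Group.IsSolvable M] (p : ℕ)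
    [hp : Fact p.Prime] (h : pCore p M = ⊥) :
    Subgroup.centralizer (pPrimeCore p M : Set M) ≤ pPrimeCore p M := by
  have hF : fittingSubgroup M ≤ pPrimeCore p M := by
    rw [Cfsg.Agent.Lib.Helper1.fitting_eq_iSup_pCore]
    apply iSup_le
    intro q
    by_cases hq : (q : ℕ) = p
    · rw [hq, h]; exact bot_le
    · exact Cfsg.Agent.Lib.Helper1.pCore_le_pPrimeCore hp.out q.2 hq
  exact (Subgroup.centralizer_le (SetLike.coe_subset_coe.mpr hF)).trans
    (Cfsg.Agent.Lib.Helper1.centralizer_fitting_le.trans hF)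

/-- the `S₄`-criterion for solvable groups -/
theorem involves_perm4_of_offender_solvable {Y : Type*} [Group Y] [Finite Y] [Group.IsSolvable Y]
    (V : Subgroup Y) [V.Normal] (hV : IsElementaryAbelian 2 V)
    (hC : IsPGroup 2 (Subgroup.centralizer (V : Set Y)))
    (hO : pCore 2 Y ≤ Subgroup.centralizer (V : Set Y))
    (A₀ : Subgroup Y) (hA₀p : IsPGroup 2 A₀) (hA₀c : IsMulCommutative A₀)
    (hnc : ¬ A₀ ≤ Subgroup.centralizer (V : Set Y))
    (hoff : Nat.card ↥(A₀ ⊓ Subgroup.centralizer (V : Set Y)) * Nat.card V ≤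
      Nat.card A₀ * Nat.card ↥(V ⊓ Subgroup.centralizer (A₀ : Set Y))) :
    Involves (Equiv.Perm (Fin 4)) Y := by
  obtain ⟨C, hCdef⟩ : ∃ C, C = Subgroup.centralizer (V : Set Y) := ⟨_, rfl⟩
  haveI hCn : C.Normal := by rw [hCdef]; infer_instance
  have hs := QuotientGroup.mk'_surjective C
  have hM2 : pCore 2 (Y ⧸ C) = ⊥ := by
    have h1 : (pCore 2 (Y ⧸ C)).comap (QuotientGroup.mk' C) ≤ C := by
      refine le_trans ?_ (hCdef ▸ hO : pCore 2 Y ≤ C)
      apply Cfsg.Agent.Lib.Helper5.le_pCore inferInstance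
      apply IsPGroup.comap_of_ker_isPGroup Cfsg.Agent.Lib.Helper5.pCore_isPGroup
      rw [QuotientGroup.ker_mk', hCdef]
      exact hC
    rw [← Subgroup.map_comap_eq_self_of_surjective hs (pCore 2 (Y ⧸ C)), eq_bot_iff]
    refine (Subgroup.map_mono h1).trans ?_
    rintro _ ⟨c, hc, rfl⟩
    exact (QuotientGroup.eq_one_iff c).mpr hc
  have hHH := centralizer_pPrimeCore_le 2 hM2
  obtain ⟨N, hN⟩ : ∃ N, N = (pPrimeCore 2 (Y ⧸ C)).comap (QuotientGroup.mk' C) := ⟨_, rfl⟩
  haveI hNn : N.Normal := by rw [hN]; infer_instance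
  have hNmap : N.map (QuotientGroup.mk' C) = pPrimeCore 2 (Y ⧸ C) := by
    rw [hN, Subgroup.map_comap_eq_self_of_surjective hs]
  have hodd : (Nat.card (pPrimeCore 2 (Y ⧸ C))).Coprime 2 :=
    Cfsg.Agent.Lib.Helper1.pPrimeCore_coprime 2
  have hrel : (C.relIndex N).Coprime 2 := by
    rw [relIndex_eq_card_map, hNmap]; exact hodd
  refine involves_perm4_of_offender V hV hC N (hCdef ▸ hrel) A₀ hA₀p hA₀c hnc hoff ?_
  intro a ha han
  rw [← hCdef] at han ⊢
  have h1 := (mem_comap_centralizer_map_iff C N a).mpr han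
  rw [hNmap, Subgroup.mem_comap] at h1
  have h2 := hHH h1
  -- a `2`-element of an odd order group
  obtain ⟨k, hk⟩ := hA₀p ⟨a, ha⟩
  have hk' : a ^ 2 ^ k = 1 := congrArg Subtype.val hk
  have h3 : orderOf (QuotientGroup.mk' C a) ∣ 2 ^ k := by
    apply orderOf_dvd_of_pow_eq_one
    rw [← map_pow, hk', map_one]
  have h4 : orderOf (QuotientGroup.mk' C a) ∣ Nat.card (pPrimeCore 2 (Y ⧸ C)) :=
    Subgroup.orderOf_dvd_natCard _ h2
  have h5 : orderOf (QuotientGroup.mk' C a) = 1 :=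
    Nat.eq_one_of_dvd_coprimes (Nat.Coprime.pow_right k hodd) h4 h3
  rw [orderOf_eq_one_iff] at h5
  exact (QuotientGroup.eq_one_iff a).mp h5

/-- relative form of the criterion, inside a normal subgroup `L` -/
theorem involves_perm4_of_offender_rel {X : Type*} [Group X] [Finite X] [Group.IsSolvable X]
    (L V A : Subgroup X) [hLn : L.Normal] [hVn : V.Normal] (hVL : V ≤ L) (hAL : A ≤ L)
    (hV : IsElementaryAbelian 2 V)
    (hC : IsPGroup 2 ↥(L ⊓ Subgroup.centralizer (V : Set X)))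
    (hO : pCore 2 X ≤ Subgroup.centralizer (V : Set X))
    (hAp : IsPGroup 2 A) (hAc : IsMulCommutative A)
    (hnc : ¬ A ≤ Subgroup.centralizer (V : Set X))
    (hoff : Nat.card ↥(A ⊓ Subgroup.centralizer (V : Set X)) * Nat.card V ≤
      Nat.card A * Nat.card ↥(V ⊓ Subgroup.centralizer (A : Set X))) :
    Involves (Equiv.Perm (Fin 4)) X := by
  apply involves_of_subgroup L
  have e1 := centralizer_subgroupOf hVL
  have e2 := centralizer_subgroupOf hAL
  apply involves_perm4_of_offender_solvable (V.subgroupOf L) (elemAb_subgroupOf L hV) ?_ ?_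
    (A.subgroupOf L) hAp.comap_subtype (comm_subgroupOf L hAc) ?_ ?_
  · rw [e1, ← Subgroup.inf_subgroupOf_left]; exact hC.comap_subtype
  · rw [e1]
    intro y hy
    rw [Subgroup.mem_subgroupOf]
    exact hO (Cfsg.Agent.Lib.Helper17.pCore_map_subtype_le_of_normal 2 L ⟨y, hy, rfl⟩)
  · rw [e1]
    intro h
    apply hnc
    intro a ha
    exact Subgroup.mem_subgroupOf.mp
      (h (Subgroup.mem_subgroupOf.mpr ha : (⟨a, hAL ha⟩ : L) ∈ A.subgroupOf L))
  · rw [e1, e2]
    have i1 : A.subgroupOf L ⊓ (Subgroup.centralizer (V : Set X)).subgroupOf L =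
        (A ⊓ Subgroup.centralizer (V : Set X)).subgroupOf L := (Subgroup.comap_inf _ _ _).symm
    have i2 : V.subgroupOf L ⊓ (Subgroup.centralizer (A : Set X)).subgroupOf L =
        (V ⊓ Subgroup.centralizer (A : Set X)).subgroupOf L := (Subgroup.comap_inf _ _ _).symm
    rw [i1, i2, Cfsg.Agent.Lib.Helper5.card_subgroupOf_of_le (inf_le_left.trans hAL),
      Cfsg.Agent.Lib.Helper5.card_subgroupOf_of_le (inf_le_left.trans hVL),
      Cfsg.Agent.Lib.Helper5.card_subgroupOf_of_le hAL,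
      Cfsg.Agent.Lib.Helper5.card_subgroupOf_of_le hVL]
    exact hoff

/-- Thompson's inequality, elementary abelian version -/
theorem thompson_offenderE {X : Type u} [Group X] [Finite X] {p : ℕ} {T A₀ V : Subgroup X}
    (hA₀ : A₀ ∈ maxQ (IsElementaryAbelian p) T) (hVT : V ≤ T)
    (hV : IsElementaryAbelian p V) (hAV : A₀ ≤ Subgroup.normalizer (V : Set X)) :
    Nat.card ↥(A₀ ⊓ Subgroup.centralizer (V : Set X)) * Nat.card V ≤
      Nat.card A₀ * Nat.card ↥(V ⊓ Subgroup.centralizer (A₀ : Set X)) := by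
  have hA₀c := hA₀.2.1.1
  have hB : IsElementaryAbelian p ((A₀ ⊓ Subgroup.centralizer (V : Set X)) ⊔ V) :=
    elemAb_sup (elemAb_of_le inf_le_left hA₀.2.1) hV (Subgroup.le_centralizer_iff.mp inf_le_right)
  have h1 := hA₀.2.2 _ (sup_le (inf_le_left.trans hA₀.1) hVT) hB
  have h2 := card_sup_mul_card_inf (A₀ ⊓ Subgroup.centralizer (V : Set X)) V
    (inf_le_left.trans hAV)
  have h3 : (A₀ ⊓ Subgroup.centralizer (V : Set X)) ⊓ V ≤
      V ⊓ Subgroup.centralizer (A₀ : Set X) := by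
    intro y hy
    refine ⟨hy.2, ?_⟩
    show y ∈ Subgroup.centralizer (A₀ : Set X)
    rw [Subgroup.mem_centralizer_iff]
    intro a ha
    exact setLike_mul_comm ha hy.1.1
  rw [← h2]
  exact Nat.mul_le_mul h1 (Subgroup.card_le_of_le h3)

/-- `O(X) = 1`, `X` solvable and `S₄`-free, Sylow `2`-subgroup of class at most `2`: every
elementary abelian subgroup of largest order of `T` lies in `O₂(X)`. -/
theorem maxElemAb_le_pCore_of_class_two {X : Type u} [Group X] [Finite X] [Group.IsSolvable X]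
    (hO : pPrimeCore 2 X = ⊥) (hS4 : ¬ Involves (Equiv.Perm (Fin 4)) X) (T : Sylow 2 X)
    (hcl : ⁅⁅(T : Subgroup X), (T : Subgroup X)⁆, (T : Subgroup X)⁆ = ⊥)
    {A : Subgroup X} (hA : A ∈ maxQ (IsElementaryAbelian 2) (T : Subgroup X)) :
    A ≤ pCore 2 X := by
  by_contra hAH
  have hc : Subgroup.centralizer (pCore 2 X : Set X) ≤ pCore 2 X :=
    Cfsg.Agent.Lib.Helper1.centralizer_pCore_le 2 hO
  obtain ⟨H, hH⟩ : ∃ H, H = pCore 2 X := ⟨_, rfl⟩
  rw [← hH] at hc hAH
  haveI hHn : H.Normal := by rw [hH]; infer_instance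
  have hHp : IsPGroup 2 H := by rw [hH]; exact Cfsg.Agent.Lib.Helper5.pCore_isPGroup
  have hHT : H ≤ (T : Subgroup X) := by rw [hH]; exact Cfsg.Agent.Lib.Helper5.pCore_le_sylow T
  obtain ⟨Z, hZ⟩ : ∃ Z, Z = H ⊓ Subgroup.centralizer (H : Set X) := ⟨_, rfl⟩
  haveI hZn : Z.Normal := by rw [hZ]; infer_instance
  have hZab : IsMulCommutative Z := by rw [hZ]; exact comm_inf_centralizer H
  obtain ⟨V, hVdef⟩ : ∃ V, V = omegaOne 2 Z := ⟨_, rfl⟩
  haveI hVn : V.Normal := by rw [hVdef]; exact omegaOne_normal Z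
  have hVel : IsElementaryAbelian 2 V := by rw [hVdef]; exact elemAb_omegaOne hZab
  have hVZ : V ≤ Z := by rw [hVdef]; exact Cfsg.Agent.Lib.Helper5.omegaOne_le Z
  have hVH : V ≤ H := hVZ.trans (hZ ▸ inf_le_left)
  have hVCH : V ≤ Subgroup.centralizer (H : Set X) := hVZ.trans (hZ ▸ inf_le_right)
  have hHC : H ≤ Subgroup.centralizer (V : Set X) := Subgroup.le_centralizer_iff.mp hVCH
  haveI : (H.map (QuotientGroup.mk' V)).Normal := hHn.map _ (QuotientGroup.mk'_surjective V)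
  obtain ⟨L, hL⟩ : ∃ L, L = (Subgroup.centralizer ((H.map (QuotientGroup.mk' V) :
    Subgroup (X ⧸ V)) : Set (X ⧸ V))).comap (QuotientGroup.mk' V) := ⟨_, rfl⟩
  haveI hLn : L.Normal := by rw [hL]; infer_instance
  have hmemL : ∀ g, g ∈ L ↔ ∀ h ∈ H, g * h * g⁻¹ * h⁻¹ ∈ V := by
    intro g; rw [hL]; exact mem_comap_centralizer_map_iff V H g
  have hVL : V ≤ L := by
    intro v hv
    rw [hmemL]
    intro h hh
    have : h * v = v * h := Subgroup.mem_centralizer_iff.mp (hVCH hv) h hh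
    have e : v * h * v⁻¹ * h⁻¹ = 1 := by rw [← this]; group
    rw [e]; exact V.one_mem
  have hTT : ⁅(T : Subgroup X), (T : Subgroup X)⁆ ≤
      Subgroup.centralizer ((T : Subgroup X) : Set X) :=
    Subgroup.commutator_eq_bot_iff_le_centralizer.mp hcl
  have hAL : A ≤ L := by
    intro a ha
    rw [hmemL]
    intro h hh
    set c := a * h * a⁻¹ * h⁻¹ with hcdef
    have hcc : c ∈ ⁅(T : Subgroup X), (T : Subgroup X)⁆ :=
      Subgroup.commutator_mem_commutator (hA.1 ha) (hHT hh)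
    have hcT : c ∈ Subgroup.centralizer ((T : Subgroup X) : Set X) := hTT hcc
    have hcCH : c ∈ Subgroup.centralizer (H : Set X) :=
      Subgroup.centralizer_le (SetLike.coe_subset_coe.mpr hHT) hcT
    have hcZ : c ∈ Z := by rw [hZ]; exact ⟨hc hcCH, hcCH⟩
    have haa : a * a = 1 := EA2.sq hA.2.1 ha
    have hai : a⁻¹ = a := inv_eq_of_mul_eq_one_left haa
    have hac : a * c = c * a := Subgroup.mem_centralizer_iff.mp hcT a (hA.1 ha)
    have h1 : a * h * a⁻¹ = c * h := by rw [hcdef]; group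
    have h2 : c * c * h = h := by
      calc c * c * h = c * (c * h) := by group
        _ = c * (a * h * a⁻¹) := by rw [h1]
        _ = (c * a) * h * a⁻¹ := by group
        _ = (a * c) * h * a⁻¹ := by rw [hac]
        _ = a * (c * h) * a⁻¹ := by group
        _ = a * (a * h * a⁻¹) * a⁻¹ := by rw [h1]
        _ = (a * a) * h * (a * a)⁻¹ := by group
        _ = h := by rw [haa]; group
    have h3 : c ^ 2 = 1 := by
      rw [pow_two]
      exact mul_eq_right.mp h2
    rw [hVdef]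
    exact mem_omegaOne hcZ h3
  have hC : IsPGroup 2 ↥(L ⊓ Subgroup.centralizer (V : Set X)) := by
    apply isPGroup_of_stab_two hHp hVH
    · rw [Subgroup.commutator_le]
      intro h hh g hg
      have h1 := (hmemL g).mp hg.1 h hh
      have e : ⁅h, g⁆ = (g * h * g⁻¹ * h⁻¹)⁻¹ := by rw [commutatorElement_def]; group
      rw [e]; exact V.inv_mem h1
    · rw [Subgroup.commutator_eq_bot_iff_le_centralizer]
      exact Subgroup.le_centralizer_iff.mp inf_le_right
    · exact hHp.to_le (inf_le_right.trans hc)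
  have hnV : ∀ K : Subgroup X, K ≤ Subgroup.normalizer (V : Set X) := by
    intro K
    rw [Subgroup.normalizer_eq_top_iff.mpr hVn]; exact le_top
  apply hS4
  refine involves_perm4_of_offender_rel L V A hVL hAL hVel hC (hH ▸ hHC) (T.2.to_le hA.1)
    hA.2.1.1 ?_ (thompson_offenderE hA (hVH.trans hHT) hVel (hnV A))
  intro hAC
  apply hAH
  -- `A ≤ L ∩ C(V)`, a normal `2`-subgroup
  have hn : (L ⊓ Subgroup.centralizer (V : Set X)).Normal := inferInstance
  rw [hH]
  exact (le_inf hAL hAC).trans (Cfsg.Agent.Lib.Helper5.le_pCore hn hC)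

theorem thompsonE_normal_of_class_two {X : Type u} [Group X] [Finite X] [Group.IsSolvable X]
    (hO : pPrimeCore 2 X = ⊥) (hS4 : ¬ Involves (Equiv.Perm (Fin 4)) X) (T : Sylow 2 X)
    (hcl : ⁅⁅(T : Subgroup X), (T : Subgroup X)⁆, (T : Subgroup X)⁆ = ⊥) :
    (thompsonSubgroupOf 2 (T : Subgroup X)).Normal := by
  rw [thompsonSubgroupOf_eq, ← Subgroup.normalizer_eq_top_iff, eq_top_iff]
  intro g _
  have hle : (sSup (maxQ (IsElementaryAbelian 2) (T : Subgroup X))).map
      (MulAut.conj g).toMonoidHom ≤ sSup (maxQ (IsElementaryAbelian 2) (T : Subgroup X)) := by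
    rw [(Subgroup.gc_map_comap (MulAut.conj g).toMonoidHom).l_sSup]
    apply iSup₂_le
    intro A hA
    apply le_sSup
    have hAH := maxElemAb_le_pCore_of_class_two hO hS4 T hcl hA
    refine ⟨?_, elemAb_map _ hA.2.1, fun C hC hQ => ?_⟩
    · refine le_trans ?_ (Cfsg.Agent.Lib.Helper5.pCore_le_sylow T)
      rintro _ ⟨a, ha, rfl⟩
      exact (inferInstance : (pCore 2 X).Normal).conj_mem a (hAH ha) g
    · rw [Subgroup.card_map_of_injective (MulAut.conj g).injective]
      exact hA.2.2 C hC hQ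
  apply mem_normalizer_of_conj_le
  intro y hy
  exact hle ⟨y, hy, rfl⟩

end Cfsg.Agent.Lib.Helper17
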