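import Cfsg.Agent.Lib.Helper17.S4Rec
import Cfsg.Agent.Lib.Helper5.QuadStab

set_option autoImplicit false

namespace Cfsg.Agent.Lib.Helper17

open Cfsg

variable {G : Type*} [Group G]

/-- conjugation action of `G` on the normal subgroup `V`, as permutations of `V` -/
noncomputable def conjPerm (V : Subgroup G) [V.Normal] : G →* Equiv.Perm V :=
  (MulAut.toPerm V).comp MulAut.conjNormal

/-- left multiplication of `V` on itself -/
noncomputable def lmulPerm (V : Subgroup G) : V →* Equiv.Perm V := MulAction.toPermHom V V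

theorem conjPerm_apply (V : Subgroup G) [V.Normal] (g : G) (v : V) :
    ((conjPerm V g v : V) : G) = g * v * g⁻¹ := MulAut.conjNormal_apply g v

theorem lmulPerm_apply (V : Subgroup G) (v w : V) : lmulPerm V v w = v * w := rfl

theorem lmulPerm_injective (V : Subgroup G) : Function.Injective (lmulPerm V) := by
  intro v w h
  have := congrArg (fun σ : Equiv.Perm V => σ 1) h
  simpa [lmulPerm_apply] using this

theorem conjPerm_eq_one_iff (V : Subgroup G) [V.Normal] (g : G) :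
    conjPerm V g = 1 ↔ g ∈ Subgroup.centralizer (V : Set G) := by
  constructor
  · intro h
    rw [Subgroup.mem_centralizer_iff]
    intro v hv
    have h1 := congrArg (fun σ : Equiv.Perm V => ((σ ⟨v, hv⟩ : V) : G)) h
    simp only [conjPerm_apply, Equiv.Perm.coe_one, id_eq] at h1
    calc v * g = (g * v * g⁻¹) * g := by rw [h1]
      _ = g * v := by group
  · intro h
    ext v
    rw [conjPerm_apply, Equiv.Perm.coe_one, id_eq,
      ← Subgroup.mem_centralizer_iff.mp h v v.2]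
    group

theorem conjPerm_ker (V : Subgroup G) [V.Normal] :
    (conjPerm V).ker = Subgroup.centralizer (V : Set G) := by
  ext g
  rw [MonoidHom.mem_ker, conjPerm_eq_one_iff]

theorem conjPerm_mul_lmulPerm (V : Subgroup G) [V.Normal] (g : G) (v : V) :
    conjPerm V g * lmulPerm V v * (conjPerm V g)⁻¹ = lmulPerm V (conjPerm V g v) := by
  rw [mul_inv_eq_iff_eq_mul]
  ext w
  simp only [Equiv.Perm.coe_mul, Function.comp_apply, lmulPerm_apply, Subgroup.coe_mul,
    conjPerm_apply]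
  group

/-- Passing to the holomorph of `V`: an "over-offender" modulo `C(V)` produces an `S₃`-pair
modulo `C(V)`. -/
theorem exists_pair_of_offender [Finite G] (V : Subgroup G) [V.Normal]
    (hV : IsElementaryAbelian 2 V) (N A : Subgroup G)
    (hN : ((Subgroup.centralizer (V : Set G)).relIndex N).Coprime 2)
    (hAN : A ≤ Subgroup.normalizer (N : Set G))
    (hA2 : ∀ a ∈ A, a * a ∈ Subgroup.centralizer (V : Set G))
    (hAc : ∀ a ∈ A, ∀ b ∈ A, a * b * a⁻¹ * b⁻¹ ∈ Subgroup.centralizer (V : Set G))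
    (hAf : ∀ a ∈ A, (∀ n ∈ N, a * n * a⁻¹ * n⁻¹ ∈ Subgroup.centralizer (V : Set G)) →
      a ∈ Subgroup.centralizer (V : Set G))
    (hsmall : (V ⊓ Subgroup.centralizer (A : Set G)).relIndex V <
      ((Subgroup.centralizer (V : Set G)).relIndex A) ^ 2) :
    ∃ x ∈ N, ∃ a ∈ A, x ∉ Subgroup.centralizer (V : Set G) ∧
      x ^ 3 ∈ Subgroup.centralizer (V : Set G) ∧
      a * x * a⁻¹ * x ∈ Subgroup.centralizer (V : Set G) := by
  by_contra hcon
  push Not at hcon
  set ρ := conjPerm V with hρ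
  set l := lmulPerm V with hl
  set V' := (⊤ : Subgroup V).map l with hV'def
  set K' := N.map ρ with hK'def
  set A' := A.map ρ with hA'def
  have hone : ∀ g, g ∈ Subgroup.centralizer (V : Set G) → ρ g = 1 :=
    fun g hg => (conjPerm_eq_one_iff V g).mpr hg
  have hV' : IsElementaryAbelian 2 V' := by
    constructor
    · refine .of_setLike_mul_comm ?_
      rintro _ ⟨v, -, rfl⟩ _ ⟨w, -, rfl⟩
      rw [← map_mul, ← map_mul]
      congr 1
      exact Subtype.ext (EA2.comm hV v.2 w.2)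
    · rintro _ ⟨v, -, rfl⟩
      rw [← map_pow]
      have : v ^ 2 = 1 := Subtype.ext (hV.2 v v.2)
      rw [this, map_one]
  have hK' : (Nat.card K').Coprime 2 := by
    rw [hK'def, ← Subgroup.relIndex_ker, conjPerm_ker]; exact hN
  have hnorm : ∀ g, ρ g ∈ Subgroup.normalizer (V' : Set (Equiv.Perm V)) := by
    intro g
    apply Cfsg.Agent.Lib.Helper5.mem_normalizer_of_conj_le
    rintro _ ⟨v, -, rfl⟩
    rw [conjPerm_mul_lmulPerm]
    exact ⟨_, trivial, rfl⟩
  have hfix : ∀ g (v : V), l v * ρ g = ρ g * l v → ρ g v = v := by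
    intro g v h1
    have h2 : l (ρ g v) = l v := by
      have h3 : ρ g * l v * (ρ g)⁻¹ = l (ρ g v) := conjPerm_mul_lmulPerm V g v
      rw [← h3, ← h1]; group
    exact lmulPerm_injective V h2
  have hcen : ∀ g, ρ g ∈ Subgroup.centralizer (V' : Set (Equiv.Perm V)) → ρ g = 1 := by
    intro g hg
    ext v
    have h1 := Subgroup.mem_centralizer_iff.mp hg (l v) ⟨v, trivial, rfl⟩
    rw [hfix g v h1]; rfl
  have hKV' : K' ≤ Subgroup.normalizer (V' : Set (Equiv.Perm V)) := by
    rintro _ ⟨g, -, rfl⟩; exact hnorm g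
  have hAV' : A' ≤ Subgroup.normalizer (V' : Set (Equiv.Perm V)) := by
    rintro _ ⟨g, -, rfl⟩; exact hnorm g
  have hf' : K' ⊓ Subgroup.centralizer (V' : Set (Equiv.Perm V)) = ⊥ := by
    rw [eq_bot_iff]
    rintro _ ⟨⟨g, -, rfl⟩, hc⟩
    exact hcen g hc
  have hA' : IsElementaryAbelian 2 A' := by
    constructor
    · refine .of_setLike_mul_comm ?_
      rintro _ ⟨a, ha, rfl⟩ _ ⟨b, hb, rfl⟩
      have h1 := hone _ (hAc a ha b hb)
      rw [map_mul, map_mul, map_mul, map_inv, map_inv] at h1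
      calc ρ a * ρ b = (ρ a * ρ b * (ρ a)⁻¹ * (ρ b)⁻¹) * (ρ b * ρ a) := by group
        _ = ρ b * ρ a := by rw [h1, one_mul]
    · rintro _ ⟨a, ha, rfl⟩
      rw [pow_two, ← map_mul]
      exact hone _ (hA2 a ha)
  have hAK' : A' ≤ Subgroup.normalizer (K' : Set (Equiv.Perm V)) :=
    (Subgroup.map_mono hAN).trans (Subgroup.le_normalizer_map ρ)
  have hAf' : A' ⊓ Subgroup.centralizer (K' : Set (Equiv.Perm V)) = ⊥ := by
    rw [eq_bot_iff]
    rintro _ ⟨⟨a, ha, rfl⟩, hc⟩
    apply hone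
    apply hAf a ha
    intro n hn
    rw [← conjPerm_eq_one_iff]
    have h1 := Subgroup.mem_centralizer_iff.mp hc (ρ n) ⟨n, hn, rfl⟩
    show ρ (a * n * a⁻¹ * n⁻¹) = 1
    rw [map_mul, map_mul, map_mul, map_inv, map_inv, ← h1]
    group
  have hno' : ∀ x' ∈ K', ∀ a' ∈ A', orderOf x' = 3 → a' * x' * a'⁻¹ = x'⁻¹ → False := by
    rintro _ ⟨x, hx, rfl⟩ _ ⟨a, ha, rfl⟩ ho hinv
    refine hcon x hx a ha ?_ ?_ ?_
    · intro h
      rw [hone x h, orderOf_one] at ho
      omega
    · rw [← conjPerm_eq_one_iff]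
      show ρ (x ^ 3) = 1
      rw [map_pow, ← ho, pow_orderOf_eq_one]
    · rw [← conjPerm_eq_one_iff]
      show ρ (a * x * a⁻¹ * x) = 1
      rw [map_mul, map_mul, map_mul, map_inv, hinv, inv_mul_cancel]
  have key := sq_card_le_relIndex_of_no_S3 hV' hK' hKV' hf' _ A' rfl hA' hAK' hAV' hAf' hno'
  have hcardA : Nat.card A' = (Subgroup.centralizer (V : Set G)).relIndex A := by
    rw [hA'def, ← Subgroup.relIndex_ker, conjPerm_ker]
  have hinf : V' ⊓ Subgroup.centralizer (A' : Set (Equiv.Perm V)) =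
      ((V ⊓ Subgroup.centralizer (A : Set G)).subgroupOf V).map l := by
    ext σ
    constructor
    · rintro ⟨⟨v, -, rfl⟩, hc⟩
      refine ⟨v, ?_, rfl⟩
      show v ∈ (V ⊓ Subgroup.centralizer (A : Set G)).subgroupOf V
      rw [Subgroup.mem_subgroupOf]
      refine ⟨v.2, ?_⟩
      show (v : G) ∈ Subgroup.centralizer (A : Set G)
      rw [Subgroup.mem_centralizer_iff]
      intro a ha
      have h1 := Subgroup.mem_centralizer_iff.mp hc (ρ a) ⟨a, ha, rfl⟩
      have h2 := congrArg Subtype.val (hfix a v h1.symm)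
      rw [conjPerm_apply] at h2
      calc a * (v : G) = (a * v * a⁻¹) * a := by group
        _ = v * a := by rw [h2]
    · rintro ⟨v, hv, rfl⟩
      refine ⟨⟨v, trivial, rfl⟩, ?_⟩
      show l v ∈ Subgroup.centralizer (A' : Set (Equiv.Perm V))
      rw [Subgroup.mem_centralizer_iff]
      rintro _ ⟨a, ha, rfl⟩
      have hv' := (Subgroup.mem_subgroupOf.mp hv).2
      have h1 := Subgroup.mem_centralizer_iff.mp hv' a ha
      have h2 : ρ a v = v := by
        apply Subtype.ext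
        rw [conjPerm_apply, h1]; group
      have h3 := conjPerm_mul_lmulPerm V a v
      rw [h2] at h3
      calc ρ a * l v = (ρ a * l v * (ρ a)⁻¹) * ρ a := by group
        _ = l v * ρ a := by rw [h3]
  rw [hinf, hV'def, Subgroup.relIndex_map_map_of_injective _ _ (lmulPerm_injective V),
    Subgroup.relIndex_top_right, hcardA] at key
  exact absurd hsmall (not_lt.mpr key)

/-- An `S₃`-pair modulo `C(V)`, where `C(V)` is a `2`-group, gives a section `S₄`. -/
theorem involves_perm4_of_pair_mod [Finite G] (V : Subgroup G) [V.Normal]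
    (hV : IsElementaryAbelian 2 V) (hC : IsPGroup 2 (Subgroup.centralizer (V : Set G)))
    {x₁ a₁ : G} (hx₁ : x₁ ∉ Subgroup.centralizer (V : Set G))
    (hx₁3 : x₁ ^ 3 ∈ Subgroup.centralizer (V : Set G))
    (ha₁ : ∃ k, orderOf a₁ = 2 ^ k)
    (hinv₁ : a₁ * x₁ * a₁⁻¹ * x₁ ∈ Subgroup.centralizer (V : Set G)) :
    Involves (Equiv.Perm (Fin 4)) G := by
  set C := Subgroup.centralizer (V : Set G) with hCdef
  haveI hCn : C.Normal := inferInstance
  set ρ := conjPerm V with hρ
  have hone : ∀ g, g ∈ C ↔ ρ g = 1 := fun g => (conjPerm_eq_one_iff V g).symm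
  obtain ⟨j, hj⟩ := hC ⟨x₁ ^ 3, hx₁3⟩
  have hj' : (x₁ ^ 3) ^ 2 ^ j = 1 := congrArg Subtype.val hj
  set x := x₁ ^ 2 ^ j with hx
  have hx3 : x ^ 3 = 1 := by rw [hx, ← pow_mul, mul_comm, pow_mul]; exact hj'
  have hxC : x ∉ C := fun h => hx₁ (Cfsg.Agent.Lib.Helper5.mem_of_pow_mem_of_coprime C
    (Nat.Coprime.pow_left j (by decide : Nat.Coprime 2 3)) h hx₁3)
  have hx1 : x ≠ 1 := fun h => hxC (h ▸ C.one_mem)
  have ho : orderOf x = 3 := orderOf_eq_prime hx3 hx1
  have hinv' : ρ a₁ * ρ x * (ρ a₁)⁻¹ = (ρ x)⁻¹ := by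
    have h1 : ρ a₁ * ρ x₁ * (ρ a₁)⁻¹ = (ρ x₁)⁻¹ := by
      have := (hone _).mp hinv₁
      rw [map_mul, map_mul, map_mul, map_inv] at this
      exact eq_inv_of_mul_eq_one_left this
    rw [hx, map_pow, ← conj_pow, h1, inv_pow]
  set Q := Subgroup.zpowers x with hQ
  have hxm : x ∈ Q := Subgroup.mem_zpowers x
  have hQcard : Nat.card Q = 3 := by rw [hQ, Nat.card_zpowers, ho]
  obtain ⟨m, hm⟩ := IsPGroup.iff_card.mp hC
  have hQC : Q ⊓ C = ⊥ := by
    apply disjoint_iff.mp
    apply Subgroup.disjoint_of_coprime_natCard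
    rw [hQcard, hm]
    exact Nat.Coprime.pow_right m (by decide)
  have hnC : ∀ K : Subgroup G, K ≤ Subgroup.normalizer (C : Set G) := by
    intro K
    rw [Subgroup.normalizer_eq_top_iff.mpr hCn]; exact le_top
  set L := Q ⊔ C with hL
  have hcardL : Nat.card L = 3 * 2 ^ m := by
    have := Cfsg.Agent.Lib.Helper5.card_sup_mul_card_inf Q C (hnC Q)
    rw [hQC, Subgroup.card_bot, mul_one, hQcard, hm] at this
    exact this
  haveI : Fact (Nat.Prime 3) := ⟨by norm_num⟩
  have hsyl : IsSyl 3 Q L := by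
    apply isSyl_of_not_dvd_relIndex le_sup_left
    · apply IsPGroup.of_card (n := 1); rw [hQcard, pow_one]
    · have h1 := Cfsg.Agent.Lib.Helper5.card_mul_relIndex (le_sup_left : Q ≤ L)
      rw [hQcard, hcardL] at h1
      have h2 : Q.relIndex L = 2 ^ m := Nat.eq_of_mul_eq_mul_left (by norm_num) h1
      rw [h2]
      intro h3
      have := (Nat.Prime.dvd_of_dvd_pow (by norm_num : Nat.Prime 3) h3)
      omega
  have haL : Subgroup.zpowers a₁ ≤ Subgroup.normalizer (L : Set G) := by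
    rw [Subgroup.zpowers_le]
    have hle : L.map (MulAut.conj a₁).toMonoidHom ≤ L := by
      rw [hL, Subgroup.map_sup, hQ, MonoidHom.map_zpowers]
      apply sup_le
      · rw [Subgroup.zpowers_le]
        have e : (MulAut.conj a₁).toMonoidHom x = (a₁ * x * a₁⁻¹ * x) * x⁻¹ := by
          simp [MulAut.conj_apply]
        rw [e]
        apply Subgroup.mul_mem
        · apply le_sup_right (a := Subgroup.zpowers x)
          rw [hone, map_mul, map_mul, map_mul, map_inv, hinv', inv_mul_cancel]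
        · exact le_sup_left (b := C) (Subgroup.inv_mem _ hxm)
      · refine le_trans ?_ le_sup_right
        rintro _ ⟨c, hc, rfl⟩
        exact hCn.conj_mem c hc a₁
    apply Cfsg.Agent.Lib.Helper5.mem_normalizer_of_conj_le
    intro y hy
    exact hle ⟨y, hy, rfl⟩
  obtain ⟨n, hnL, hnN⟩ := frattini_arg hsyl haL (Subgroup.mem_zpowers a₁)
  obtain ⟨q, hq, c, hc, rfl⟩ := (mem_sup_of_le_normalizer (hnC Q)).mp hnL
  set a := q * ((q * c)⁻¹ * a₁) with ha
  have haN : a ∈ Subgroup.normalizer (Q : Set G) :=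
    Subgroup.mul_mem _ (Subgroup.le_normalizer hq) hnN
  have haeq : a = (q * c⁻¹ * q⁻¹) * a₁ := by rw [ha]; group
  have hcc : q * c⁻¹ * q⁻¹ ∈ C := hCn.conj_mem _ (C.inv_mem hc) q
  have hρa : ρ a = ρ a₁ := by
    rw [haeq, map_mul, (hone _).mp hcc, one_mul]
  have hinv : a * x * a⁻¹ = x⁻¹ := by
    have h1 : a * x * a⁻¹ * x ∈ Q ⊓ C := by
      constructor
      · exact Q.mul_mem ((Subgroup.mem_normalizer_iff.mp haN x).mp hxm) hxm
      · show a * x * a⁻¹ * x ∈ C
        rw [hone, map_mul, map_mul, map_mul, map_inv, hρa, hinv', inv_mul_cancel]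
    rw [hQC, Subgroup.mem_bot] at h1
    exact eq_inv_of_mul_eq_one_left h1
  have hP₂ : IsPGroup 2 ↥(Subgroup.zpowers a₁ ⊔ C) :=
    IsPGroup.to_sup_of_normal_right' (isPGroup_zpowers_of_orderOf ha₁) hC (hnC _)
  have haP : a ∈ Subgroup.zpowers a₁ ⊔ C := by
    rw [haeq]
    exact Subgroup.mul_mem _ (le_sup_right (a := Subgroup.zpowers a₁) hcc)
      (le_sup_left (b := C) (Subgroup.mem_zpowers a₁))
  have ha2 : ∃ k, orderOf a = 2 ^ k := by
    obtain ⟨k, hk⟩ := hP₂ ⟨a, haP⟩
    have hk' : a ^ 2 ^ k = 1 := congrArg Subtype.val hk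
    obtain ⟨i, -, hi⟩ := (Nat.dvd_prime_pow Nat.prime_two).mp (orderOf_dvd_of_pow_eq_one hk')
    exact ⟨i, hi⟩
  have htop : Subgroup.normalizer (V : Set G) = ⊤ :=
    Subgroup.normalizer_eq_top_iff.mpr inferInstance
  exact involves_perm4_of_pair hV (by rw [htop]; trivial) (by rw [htop]; trivial) ho ha2 hinv hxC

end Cfsg.Agent.Lib.Helper17
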