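import Cfsg.Agent.Lib.Helper17.S3Free

set_option autoImplicit false

namespace Cfsg.Agent.Lib.Helper17

open Cfsg

theorem involves_of_surjective {H : Type*} [Group H] {G : Type*} [Group G] (K : Subgroup G)
    (f : K →* H) (hf : Function.Surjective f) : Involves H G := by
  have e0 : (f.ker.map K.subtype).subgroupOf K = f.ker := by
    rw [Subgroup.subgroupOf, Subgroup.comap_map_eq_self_of_injective K.subtype_injective]
  haveI : ((f.ker.map K.subtype).subgroupOf K).Normal := by rw [e0]; infer_instance
  exact ⟨K, f.ker.map K.subtype, inferInstance,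
    ⟨(QuotientGroup.quotientMulEquivOfEq e0).trans (QuotientGroup.quotientKerEquivOfSurjective f hf)⟩⟩

theorem exists_surjective_of_involves {H : Type*} [Group H] {G : Type*} [Group G]
    (h : Involves H G) : ∃ (K : Subgroup G) (f : K →* H), Function.Surjective f := by
  obtain ⟨K, R, hn, ⟨e⟩⟩ := h
  exact ⟨K, e.toMonoidHom.comp (QuotientGroup.mk' (R.subgroupOf K)),
    e.surjective.comp (QuotientGroup.mk'_surjective _)⟩

theorem involves_of_subgroup {H : Type*} [Group H] {G : Type*} [Group G] (M : Subgroup G)
    (h : Involves H ↥M) : Involves H G := by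
  obtain ⟨K, f, hf⟩ := exists_surjective_of_involves h
  have e := (K.equivMapOfInjective M.subtype M.subtype_injective)
  exact involves_of_surjective (K.map M.subtype) (f.comp e.symm.toMonoidHom)
    (hf.comp e.symm.surjective)

theorem involves_of_hom_surjective {H : Type*} [Group H] {G Q : Type*} [Group G] [Group Q]
    (φ : G →* Q) (hφ : Function.Surjective φ) (h : Involves H Q) : Involves H G := by
  obtain ⟨K, f, hf⟩ := exists_surjective_of_involves h
  refine involves_of_surjective (K.comap φ) (f.comp (φ.subgroupComap K)) (hf.comp ?_)
  exact MonoidHom.subgroupComap_surjective_of_surjective φ K hφ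

theorem involves_of_quotient {H : Type*} [Group H] {G : Type*} [Group G] (N : Subgroup G)
    [N.Normal] (h : Involves H (G ⧸ N)) : Involves H G :=
  involves_of_hom_surjective (QuotientGroup.mk' N) (QuotientGroup.mk'_surjective N) h

theorem involves_of_equiv {H : Type*} [Group H] {G Q : Type*} [Group G] [Group Q]
    (e : G ≃* Q) (h : Involves H Q) : Involves H G :=
  involves_of_hom_surjective e.toMonoidHom e.surjective h

end Cfsg.Agent.Lib.Helper17
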