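import Cfsg.Agent.Lib.Helper17.Hol
import Cfsg.Agent.Lib.Helper1.Coprime

set_option autoImplicit false

namespace Cfsg.Agent.Lib.Helper17

open Cfsg
open scoped commutatorElement

variable {G : Type*} [Group G]

theorem commutator_eq_bot_of_sup_eq [Finite G] {p : ℕ} [Fact p.Prime] {V A : Subgroup G}
    (hV : IsMulCommutative V)
    (hVp : IsPGroup p V) (hAp : IsPGroup p A) (hAV : A ≤ Subgroup.normalizer (V : Set G))
    (h : V = ⁅V, A⁆ ⊔ (V ⊓ Subgroup.centralizer (A : Set G))) : ⁅V, A⁆ = ⊥ := by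
  by_contra hne
  have hUV : ⁅V, A⁆ ≤ V := commutator_le_left_of_le_normalizer hAV
  have hAU : A ≤ Subgroup.normalizer ((⁅V, A⁆ : Subgroup G) : Set G) :=
    le_normalizer_commutator hAV Subgroup.le_normalizer
  have hlt := Cfsg.Agent.Lib.Helper1.commutator_lt_of_isPGroup (hVp.to_le hUV) hAp hAU hne
  have h1 : ⁅⁅V, A⁆ ⊔ (V ⊓ Subgroup.centralizer (A : Set G)), A⁆ =
      ⁅⁅V, A⁆, A⁆ ⊔ ⁅V ⊓ Subgroup.centralizer (A : Set G), A⁆ :=
    Cfsg.Agent.Lib.Helper5.sup_commutator_eq hV hAV hUV inf_le_left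
  have h2 : ⁅V ⊓ Subgroup.centralizer (A : Set G), A⁆ = ⊥ :=
    Subgroup.commutator_eq_bot_iff_le_centralizer.mpr inf_le_right
  rw [← h, h2, sup_bot_eq] at h1
  exact absurd h1.symm hlt.ne

/-- Thompson/Timmesfeld replacement: an abelian offender contains a quadratic offender. -/
theorem exists_quadratic_offender [Finite G] {p : ℕ} [Fact p.Prime] {V A₀ : Subgroup G}
    (hV : IsMulCommutative V) (hVp : IsPGroup p V) (hA₀p : IsPGroup p A₀)
    (hA₀V : A₀ ≤ Subgroup.normalizer (V : Set G)) (hA₀c : IsMulCommutative A₀)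
    (hnc : ¬ A₀ ≤ Subgroup.centralizer (V : Set G))
    (hoff : Nat.card ↥(A₀ ⊓ Subgroup.centralizer (V : Set G)) * Nat.card V ≤
      Nat.card A₀ * Nat.card ↥(V ⊓ Subgroup.centralizer (A₀ : Set G))) :
    ∃ A ≤ A₀, ¬ A ≤ Subgroup.centralizer (V : Set G) ∧
      ⁅V, A⁆ ≤ Subgroup.centralizer (A : Set G) ∧
      Nat.card ↥(A ⊓ Subgroup.centralizer (V : Set G)) * Nat.card V ≤
        Nat.card A * Nat.card ↥(V ⊓ Subgroup.centralizer (A : Set G)) := by
  classical
  obtain ⟨B₀, hB₀, hmax⟩ := Set.exists_max_image {B : Subgroup G | B ≤ A₀}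
    (fun B => Nat.card B * Nat.card ↥(V ⊓ Subgroup.centralizer (B : Set G))) (Set.toFinite _)
    ⟨A₀, (le_rfl : A₀ ≤ A₀)⟩
  have hB₀' : B₀ ≤ A₀ := hB₀
  -- a best offender acting nontrivially
  obtain ⟨A₁, hA₁, hA₁nc, hbest, hA₁off⟩ : ∃ A₁ ≤ A₀, ¬ A₁ ≤ Subgroup.centralizer (V : Set G) ∧
      (∀ B : Subgroup G, B ≤ A₁ →
        Nat.card B * Nat.card ↥(V ⊓ Subgroup.centralizer (B : Set G)) ≤
          Nat.card A₁ * Nat.card ↥(V ⊓ Subgroup.centralizer (A₁ : Set G))) ∧
      Nat.card ↥(A₀ ⊓ Subgroup.centralizer (V : Set G)) * Nat.card V ≤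
        Nat.card A₁ * Nat.card ↥(V ⊓ Subgroup.centralizer (A₁ : Set G)) := by
    by_cases hcase : Nat.card B₀ * Nat.card ↥(V ⊓ Subgroup.centralizer (B₀ : Set G)) ≤
        Nat.card A₀ * Nat.card ↥(V ⊓ Subgroup.centralizer (A₀ : Set G))
    · exact ⟨A₀, le_rfl, hnc, fun B hB => (hmax B hB).trans hcase, hoff⟩
    · push Not at hcase
      refine ⟨B₀, hB₀', ?_, fun B hB => hmax B (hB.trans hB₀'), hoff.trans hcase.le⟩
      intro hc
      have h1 : V ⊓ Subgroup.centralizer (B₀ : Set G) = V :=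
        inf_eq_left.mpr (Subgroup.le_centralizer_iff.mp hc)
      rw [h1] at hcase
      have h2 : Nat.card B₀ ≤ Nat.card ↥(A₀ ⊓ Subgroup.centralizer (V : Set G)) :=
        Subgroup.card_le_of_le (le_inf hB₀' hc)
      have h3 := Nat.mul_le_mul_right (Nat.card V) h2
      omega
  have hA₁V : A₁ ≤ Subgroup.normalizer (V : Set G) := hA₁.trans hA₀V
  have hA₁c : IsMulCommutative A₁ := Cfsg.Agent.Lib.Helper5.comm_of_le hA₁ hA₀c
  have hab : ⁅A₁, A₁⁆ ≤ Subgroup.centralizer (V : Set G) := by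
    rw [Cfsg.Agent.Lib.Helper5.comm_bot hA₁c]; exact bot_le
  obtain ⟨t1, t2⟩ := Cfsg.Agent.Lib.Helper5.tp_main hV hA₁V hab hbest V le_rfl
  refine ⟨A₁ ⊓ Subgroup.centralizer ((⁅V, A₁⁆ : Subgroup G) : Set G), inf_le_left.trans hA₁,
    ?_, ?_, ?_⟩
  · intro hc
    apply hA₁nc
    have h1 : V ⊓ Subgroup.centralizer
        ((A₁ ⊓ Subgroup.centralizer ((⁅V, A₁⁆ : Subgroup G) : Set G) : Subgroup G) : Set G) = V :=
      inf_eq_left.mpr (Subgroup.le_centralizer_iff.mp hc)
    rw [h1] at t1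
    have h2 := commutator_eq_bot_of_sup_eq hV hVp (hA₀p.to_le hA₁) hA₁V t1
    exact Subgroup.le_centralizer_iff.mp (Subgroup.commutator_eq_bot_iff_le_centralizer.mp h2)
  · refine (Subgroup.commutator_mono le_rfl inf_le_left).trans ?_
    exact Subgroup.le_centralizer_iff.mp inf_le_right
  · rw [← t2]
    refine le_trans (Nat.mul_le_mul_right _ (Subgroup.card_le_of_le ?_)) hA₁off
    exact inf_le_inf_right _ (inf_le_left.trans hA₁)

/-- quadratic action on an elementary abelian `2`-group: squares act trivially -/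
theorem sq_mem_centralizer_of_quadratic {V A : Subgroup G} (hV : IsElementaryAbelian 2 V)
    (hAV : A ≤ Subgroup.normalizer (V : Set G))
    (hq : ⁅V, A⁆ ≤ Subgroup.centralizer (A : Set G)) {a : G} (ha : a ∈ A) :
    a * a ∈ Subgroup.centralizer (V : Set G) := by
  rw [Subgroup.mem_centralizer_iff]
  intro v hv
  set d := v * a * v⁻¹ * a⁻¹ with hd
  have hdc : d ∈ ⁅V, A⁆ := Subgroup.commutator_mem_commutator hv ha
  have hdV : d ∈ V := commutator_le_left_of_le_normalizer hAV hdc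
  have hda : a * d = d * a := Subgroup.mem_centralizer_iff.mp (hq hdc) a ha
  have hdd : d * d = 1 := EA2.sq hV hdV
  have h1 : v * a = d * a * v := by rw [hd]; group
  calc v * (a * a) = (v * a) * a := by group
    _ = (d * a * v) * a := by rw [h1]
    _ = d * a * (v * a) := by group
    _ = d * a * (d * a * v) := by rw [h1]
    _ = d * (a * d) * a * v := by group
    _ = (d * d) * a * a * v := by rw [hda]; group
    _ = a * a * v := by rw [hdd, one_mul]

/-- The main `S₄`-criterion: `V` a normal elementary abelian `2`-subgroup whose centralizer is a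
`2`-group, `N` normal of odd index over `C(V)` on which abelian `2`-subgroup `A₀` acts faithfully
modulo `C(V)`; if `A₀` is an offender on `V`, then `S₄` is involved. -/
theorem involves_perm4_of_offender [Finite G] (V : Subgroup G) [V.Normal]
    (hV : IsElementaryAbelian 2 V) (hC : IsPGroup 2 (Subgroup.centralizer (V : Set G)))
    (N : Subgroup G) [hNn : N.Normal]
    (hN : ((Subgroup.centralizer (V : Set G)).relIndex N).Coprime 2)
    (A₀ : Subgroup G) (hA₀p : IsPGroup 2 A₀) (hA₀c : IsMulCommutative A₀)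
    (hnc : ¬ A₀ ≤ Subgroup.centralizer (V : Set G))
    (hoff : Nat.card ↥(A₀ ⊓ Subgroup.centralizer (V : Set G)) * Nat.card V ≤
      Nat.card A₀ * Nat.card ↥(V ⊓ Subgroup.centralizer (A₀ : Set G)))
    (hAf : ∀ a ∈ A₀, (∀ n ∈ N, a * n * a⁻¹ * n⁻¹ ∈ Subgroup.centralizer (V : Set G)) →
      a ∈ Subgroup.centralizer (V : Set G)) :
    Involves (Equiv.Perm (Fin 4)) G := by
  have hnV : ∀ K : Subgroup G, K ≤ Subgroup.normalizer (V : Set G) := by
    intro K
    rw [Subgroup.normalizer_eq_top_iff.mpr inferInstance]; exact le_top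
  obtain ⟨A, hAA₀, hAnc, hquad, hAoff⟩ := exists_quadratic_offender hV.1 (EA2.isPGroup hV) hA₀p
    (hnV A₀) hA₀c hnc hoff
  have hAc : IsMulCommutative A := Cfsg.Agent.Lib.Helper5.comm_of_le hAA₀ hA₀c
  have hsmall : (V ⊓ Subgroup.centralizer (A : Set G)).relIndex V <
      ((Subgroup.centralizer (V : Set G)).relIndex A) ^ 2 := by
    set r := (V ⊓ Subgroup.centralizer (A : Set G)).relIndex V with hr
    set s := (Subgroup.centralizer (V : Set G)).relIndex A with hs
    have h1 : Nat.card ↥(V ⊓ Subgroup.centralizer (A : Set G)) * r = Nat.card V :=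
      Cfsg.Agent.Lib.Helper5.card_mul_relIndex inf_le_left
    have h2 : Nat.card ↥(A ⊓ Subgroup.centralizer (V : Set G)) * s = Nat.card A := by
      rw [hs, ← Subgroup.inf_relIndex_left]
      exact Cfsg.Agent.Lib.Helper5.card_mul_relIndex inf_le_left
    rw [← h1, ← h2] at hAoff
    have hpos : 0 < Nat.card ↥(A ⊓ Subgroup.centralizer (V : Set G)) *
        Nat.card ↥(V ⊓ Subgroup.centralizer (A : Set G)) := Nat.mul_pos Nat.card_pos Nat.card_pos
    have h3 : r ≤ s := by
      apply Nat.le_of_mul_le_mul_left _ hpos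
      calc _ = Nat.card ↥(A ⊓ Subgroup.centralizer (V : Set G)) *
            (Nat.card ↥(V ⊓ Subgroup.centralizer (A : Set G)) * r) := by ring
        _ ≤ _ := hAoff
        _ = _ := by ring
    have hs1 : s ≠ 1 := fun h => hAnc (Subgroup.relIndex_eq_one.mp h)
    have hs0 : 0 < s := relIndex_pos _ _
    have hs2 : 2 ≤ s := by omega
    calc r ≤ s := h3
      _ < s ^ 2 := by nlinarith
  obtain ⟨x, -, a, ha, hx, hx3, hinv⟩ := exists_pair_of_offender V hV N A hN
    (by rw [Subgroup.normalizer_eq_top_iff.mpr hNn]; exact le_top)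
    (fun a ha => sq_mem_centralizer_of_quadratic hV (hnV A) hquad ha)
    (fun a ha b hb => by
      have : a * b = b * a := setLike_mul_comm ha hb
      have e : a * b * a⁻¹ * b⁻¹ = 1 := by rw [this]; group
      rw [e]; exact Subgroup.one_mem _)
    (fun a ha => hAf a (hAA₀ ha)) hsmall
  have ha2 : ∃ k, orderOf a = 2 ^ k := by
    obtain ⟨k, hk⟩ := hA₀p ⟨a, hAA₀ ha⟩
    have hk' : a ^ 2 ^ k = 1 := congrArg Subtype.val hk
    obtain ⟨i, -, hi⟩ := (Nat.dvd_prime_pow Nat.prime_two).mp (orderOf_dvd_of_pow_eq_one hk')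
    exact ⟨i, hi⟩
  exact involves_perm4_of_pair_mod V hV hC hx hx3 ha2 hinv

end Cfsg.Agent.Lib.Helper17
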