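import Cfsg.Agent.Lib.Helper17.Inv
import Cfsg.Agent.Lib.Helper17.Subn
import Cfsg.Agent.Lib.Helper5.NPCRed0
import Cfsg.Agent.Lib.Helper5.Card

set_option autoImplicit false

namespace Cfsg.Agent.Lib.Helper17

open Cfsg

variable {G : Type*} [Group G]

/-- `W ⋊ D` with `|W| = 4` and `D` inducing elements of order `3` and `2` on `W` involves `S₄`. -/
theorem involves_perm4_of_config [Finite G] {W D : Subgroup G} (hW4 : Nat.card W = 4)
    (hDW : D ≤ Subgroup.normalizer (W : Set G)) (hWD : D ⊓ W = ⊥)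
    {x a : G} (hx : x ∈ D) (ha : a ∈ D) (hx3 : orderOf x = 3) (ha2 : ∃ k, orderOf a = 2 ^ k)
    (hxW : x ∉ Subgroup.centralizer (W : Set G)) (haW : a ∉ Subgroup.centralizer (W : Set G)) :
    Involves (Equiv.Perm (Fin 4)) G := by
  set E := D ⊔ W with hE
  have hDE : D ≤ E := le_sup_left
  have hWE : W ≤ E := le_sup_right
  set D' := D.subgroupOf E with hD'
  set φ := MulAction.toPermHom E (E ⧸ D') with hφ
  have hcardE : Nat.card E = Nat.card D * 4 := by
    have := Cfsg.Agent.Lib.Helper5.card_sup_mul_card_inf D W hDW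
    rw [hWD, Subgroup.card_bot, mul_one, hW4] at this
    exact this
  have hidx : D'.index = 4 := by
    have h1 := Subgroup.card_mul_index D'
    rw [hcardE, hD', card_subgroupOf_of_le hDE] at h1
    exact Nat.eq_of_mul_eq_mul_left Nat.card_pos h1
  have hq4 : Nat.card (E ⧸ D') = 4 := by rw [← Subgroup.index_eq_card]; exact hidx
  have hker : φ.ker = D'.normalCore := (Subgroup.normalCore_eq_ker D').symm
  have hkerD : φ.ker ≤ D' := by rw [hker]; exact Subgroup.normalCore_le D'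
  have hcen : ∀ n ∈ φ.ker, (n : G) ∈ Subgroup.centralizer (W : Set G) := by
    intro n hn
    rw [Subgroup.mem_centralizer_iff]
    intro w hw
    have hnD : (n : G) ∈ D := Subgroup.mem_subgroupOf.mp (hkerD hn)
    have h1 : n * ((⟨w, hWE hw⟩ : E) * n⁻¹ * (⟨w, hWE hw⟩ : E)⁻¹) ∈ φ.ker :=
      φ.ker.mul_mem hn ((inferInstance : φ.ker.Normal).conj_mem _ (φ.ker.inv_mem hn) _)
    have h2 : (n : G) * (w * (n : G)⁻¹ * w⁻¹) ∈ D := Subgroup.mem_subgroupOf.mp (hkerD h1)
    have h3 : (n : G) * (w * (n : G)⁻¹ * w⁻¹) ∈ W := by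
      have : (n : G) * (w * (n : G)⁻¹ * w⁻¹) = ((n : G) * w * (n : G)⁻¹) * w⁻¹ := by group
      rw [this]
      exact W.mul_mem (conj_mem_of_le_normalizer hDW hnD hw) (W.inv_mem hw)
    have h4 : (n : G) * (w * (n : G)⁻¹ * w⁻¹) ∈ D ⊓ W := ⟨h2, h3⟩
    rw [hWD, Subgroup.mem_bot] at h4
    calc w * (n : G) = ((n : G) * (w * (n : G)⁻¹ * w⁻¹))⁻¹ * ((n : G) * w) := by group
      _ = (n : G) * w := by rw [h4, inv_one, one_mul]
  have hφx1 : φ ⟨x, hDE hx⟩ ≠ 1 := fun h => hxW (hcen _ (MonoidHom.mem_ker.mpr h))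
  have hφa1 : φ ⟨a, hDE ha⟩ ≠ 1 := fun h => haW (hcen _ (MonoidHom.mem_ker.mpr h))
  have hox : orderOf (φ ⟨x, hDE hx⟩) = 3 := by
    apply orderOf_eq_prime _ hφx1
    rw [← map_pow]
    have : (⟨x, hDE hx⟩ : E) ^ 3 = 1 := by
      apply Subtype.ext
      show x ^ 3 = 1
      rw [← hx3]; exact pow_orderOf_eq_one x
    rw [this, map_one]
  have hoa : 2 ∣ orderOf (φ ⟨a, hDE ha⟩) := by
    obtain ⟨k, hk⟩ := ha2
    have h1 : orderOf (φ ⟨a, hDE ha⟩) ∣ 2 ^ k := by
      apply orderOf_dvd_of_pow_eq_one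
      rw [← map_pow]
      have : (⟨a, hDE ha⟩ : E) ^ 2 ^ k = 1 := by
        apply Subtype.ext
        show a ^ 2 ^ k = 1
        rw [← hk]; exact pow_orderOf_eq_one a
      rw [this, map_one]
    obtain ⟨j, -, hj⟩ := (Nat.dvd_prime_pow Nat.prime_two).mp h1
    rw [hj]
    have hj0 : j ≠ 0 := by
      rintro rfl
      rw [pow_zero, orderOf_eq_one_iff] at hj
      exact hφa1 hj
    exact dvd_pow_self 2 hj0
  have h3 : 3 ∣ Nat.card (D'.map φ) := by
    rw [← hox]
    exact Subgroup.orderOf_dvd_natCard _ (Subgroup.mem_map_of_mem φ (Subgroup.mem_subgroupOf.mpr hx))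
  have h2 : 2 ∣ Nat.card (D'.map φ) :=
    hoa.trans (Subgroup.orderOf_dvd_natCard _
      (Subgroup.mem_map_of_mem φ (Subgroup.mem_subgroupOf.mpr ha)))
  have h6 : 6 ∣ Nat.card (D'.map φ) := by
    have : Nat.Coprime 2 3 := by decide
    exact this.mul_dvd_of_dvd_of_dvd h2 h3
  have hrange : Nat.card φ.range = Nat.card (D'.map φ) * 4 := by
    rw [← Subgroup.index_ker, ← Subgroup.relIndex_mul_index hkerD, Subgroup.relIndex_ker, hidx]
  have hperm : Nat.card (Equiv.Perm (E ⧸ D')) = 24 := by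
    rw [Nat.card_perm, hq4]; rfl
  have htop : φ.range = ⊤ := by
    apply Subgroup.eq_top_of_le_card
    rw [hperm, hrange]
    have := Nat.le_of_dvd Nat.card_pos h6
    omega
  have hsurj : Function.Surjective φ := MonoidHom.range_eq_top.mp htop
  obtain ⟨e⟩ : Nonempty ((E ⧸ D') ≃ Fin 4) := by
    have h := Finite.equivFin (E ⧸ D')
    rw [hq4] at h
    exact ⟨h⟩
  exact involves_of_surjective E (e.permCongrHom.toMonoidHom.comp φ)
    (e.permCongrHom.surjective.comp hsurj)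

theorem isPGroup_zpowers_of_orderOf {p : ℕ} {a : G} (h : ∃ k, orderOf a = p ^ k) :
    IsPGroup p (Subgroup.zpowers a) := by
  obtain ⟨k, hk⟩ := h
  rintro ⟨y, hy⟩
  obtain ⟨m, rfl⟩ := Subgroup.mem_zpowers_iff.mp hy
  refine ⟨k, Subtype.ext ?_⟩
  show (a ^ m) ^ p ^ k = 1
  rw [← zpow_natCast, ← zpow_mul, mul_comm, zpow_mul, zpow_natCast, ← hk, pow_orderOf_eq_one,
    one_zpow]

theorem mem_normalizer_sup_zpowers [Finite G] {g u v : G}
    (hu : g * u * g⁻¹ ∈ Subgroup.zpowers u ⊔ Subgroup.zpowers v)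
    (hv : g * v * g⁻¹ ∈ Subgroup.zpowers u ⊔ Subgroup.zpowers v) :
    g ∈ Subgroup.normalizer ((Subgroup.zpowers u ⊔ Subgroup.zpowers v : Subgroup G) : Set G) := by
  have hle : (Subgroup.zpowers u ⊔ Subgroup.zpowers v).map (MulAut.conj g).toMonoidHom ≤
      Subgroup.zpowers u ⊔ Subgroup.zpowers v := by
    rw [Subgroup.map_sup, MonoidHom.map_zpowers, MonoidHom.map_zpowers]
    apply sup_le
    · rw [Subgroup.zpowers_le]; simpa [MulAut.conj_apply] using hu
    · rw [Subgroup.zpowers_le]; simpa [MulAut.conj_apply] using hv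
  apply Cfsg.Agent.Lib.Helper5.mem_normalizer_of_conj_le
  intro y hy
  exact hle ⟨y, hy, rfl⟩

/-- A `2`-element inverting an element of order `3` which acts nontrivially on an elementary
abelian `2`-group normalized by both: `S₄` is involved. -/
theorem involves_perm4_of_pair [Finite G] {V : Subgroup G} (hV : IsElementaryAbelian 2 V)
    {x a : G} (hxV : x ∈ Subgroup.normalizer (V : Set G))
    (haV : a ∈ Subgroup.normalizer (V : Set G)) (ho : orderOf x = 3)
    (ha : ∃ k, orderOf a = 2 ^ k) (hinv : a * x * a⁻¹ = x⁻¹)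
    (hxc : x ∉ Subgroup.centralizer (V : Set G)) : Involves (Equiv.Perm (Fin 4)) G := by
  haveI := hV.1
  set Q := Subgroup.zpowers x with hQ
  have hQcard : Nat.card Q = 3 := by rw [hQ, Nat.card_zpowers, ho]
  have hQV : Q ≤ Subgroup.normalizer (V : Set G) := by rwa [hQ, Subgroup.zpowers_le]
  obtain ⟨k, hk⟩ := IsPGroup.iff_card.mp (EA2.isPGroup hV)
  have hcop : (Nat.card Q).Coprime (Nat.card V) := by
    rw [hQcard, hk]
    exact Nat.Coprime.pow_right k (by decide)
  obtain ⟨h55a, -⟩ := Cfsg.Agent.S0055.result Q V hQV hcop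
  set U := ⁅V, Q⁆ with hU
  have hUV : U ≤ V := commutator_le_left_of_le_normalizer hQV
  have hU1 : U ≠ ⊥ := by
    intro h
    have h1 : V ≤ Subgroup.centralizer (Q : Set G) :=
      Subgroup.commutator_eq_bot_iff_le_centralizer.mp h
    apply hxc
    rw [Subgroup.mem_centralizer_iff]
    intro v hv
    exact (Subgroup.mem_centralizer_iff.mp (h1 hv) x (Subgroup.mem_zpowers x)).symm
  have haQ : Subgroup.zpowers a ≤ Subgroup.normalizer (Q : Set G) :=
    zpowers_le_normalizer_of_inverts hinv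
  have haU : Subgroup.zpowers a ≤ Subgroup.normalizer (U : Set G) :=
    le_normalizer_commutator (by rwa [Subgroup.zpowers_le]) haQ
  have hxU : Q ≤ Subgroup.normalizer (U : Set G) :=
    le_normalizer_commutator hQV Subgroup.le_normalizer
  have hTp : IsPGroup 2 ↥(Subgroup.zpowers a ⊔ U) :=
    IsPGroup.to_sup_of_normal_right' (isPGroup_zpowers_of_orderOf ha)
      ((EA2.isPGroup hV).to_le hUV) haU
  obtain ⟨u, huU, hu1, huc⟩ := Cfsg.Agent.Lib.Helper5.exists_mem_centralizer_of_le_normalizer hTp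
    le_sup_right (sup_le haU Subgroup.le_normalizer) hU1
  have hau : a * u = u * a :=
    Subgroup.mem_centralizer_iff.mp huc a (le_sup_left (b := U) (Subgroup.mem_zpowers a))
  -- `C_U(x) = 1`
  have hCU : ∀ w ∈ U, x * w = w * x → w = 1 := by
    intro w hw hxw
    have : w ∈ (V ⊓ Subgroup.centralizer (Q : Set G)) ⊓ U := by
      refine ⟨⟨hUV hw, ?_⟩, hw⟩
      show w ∈ Subgroup.centralizer (Q : Set G)
      rw [Subgroup.mem_centralizer_iff]
      intro y hy
      obtain ⟨m, rfl⟩ := Subgroup.mem_zpowers_iff.mp hy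
      exact ((show Commute x w from hxw).zpow_left m).eq
    rw [h55a] at this
    exact this
  have hxm : x ∈ Q := Subgroup.mem_zpowers x
  set u₁ := x * u * x⁻¹ with hu₁
  set u₂ := x * u₁ * x⁻¹ with hu₂
  have hu₁U : u₁ ∈ U := conj_mem_of_le_normalizer hxU hxm huU
  have hu₂U : u₂ ∈ U := conj_mem_of_le_normalizer hxU hxm hu₁U
  have hx3 : x * x * x = 1 := by
    have := pow_orderOf_eq_one x
    rw [ho] at this
    rw [← this, pow_succ, pow_two]
  have hxi : x⁻¹ = x * x := by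
    apply inv_eq_of_mul_eq_one_right
    rw [← mul_assoc]; exact hx3
  have hu₃ : x * u₂ * x⁻¹ = u := by
    rw [hu₂, hu₁]
    calc x * (x * (x * u * x⁻¹) * x⁻¹) * x⁻¹ = (x * x * x) * u * (x * x * x)⁻¹ := by group
      _ = u := by rw [hx3]; group
  have hprod : u * u₁ * u₂ = 1 := by
    apply hCU _ (U.mul_mem (U.mul_mem huU hu₁U) hu₂U)
    have e1 : x * (u * u₁ * u₂) * x⁻¹ = u₁ * u₂ * u := by
      calc x * (u * u₁ * u₂) * x⁻¹ = (x * u * x⁻¹) * (x * u₁ * x⁻¹) * (x * u₂ * x⁻¹) := by group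
        _ = u₁ * u₂ * u := by rw [hu₃]
    have e2 : u₁ * u₂ * u = u * u₁ * u₂ := by
      rw [EA2.comm hV (V.mul_mem (hUV hu₁U) (hUV hu₂U)) (hUV huU)]
      exact (mul_assoc u u₁ u₂).symm
    calc x * (u * u₁ * u₂) = (x * (u * u₁ * u₂) * x⁻¹) * x := by group
      _ = u * u₁ * u₂ * x := by rw [e1, e2]
  have hu₂eq : u₂ = u * u₁ := by
    have h1 : (u * u₁) * (u * u₁) = 1 := EA2.sq hV (V.mul_mem (hUV huU) (hUV hu₁U))
    have h2 : u₂ = (u * u₁)⁻¹ := (inv_eq_of_mul_eq_one_right hprod).symm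
    rw [h2]
    exact inv_eq_of_mul_eq_one_right h1
  have hne : u₁ ≠ u := by
    intro h
    apply hu1
    apply hCU u huU
    calc x * u = (x * u * x⁻¹) * x := by group
      _ = u * x := by rw [← hu₁, h]
  have hu₁1 : u₁ ≠ 1 := by
    intro h
    apply hu1
    have : u = x⁻¹ * u₁ * x := by rw [hu₁]; group
    rw [this, h]; group
  have hne2 : u₂ ≠ u₁ := by
    intro h
    apply hu₁1
    apply hCU u₁ hu₁U
    calc x * u₁ = (x * u₁ * x⁻¹) * x := by group
      _ = u₁ * x := by rw [← hu₂, h]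
  set W := Subgroup.zpowers u ⊔ Subgroup.zpowers u₁ with hW
  have huW : u ∈ W := le_sup_left (b := Subgroup.zpowers u₁) (Subgroup.mem_zpowers u)
  have hu₁W : u₁ ∈ W := le_sup_right (a := Subgroup.zpowers u) (Subgroup.mem_zpowers u₁)
  have hu₂W : u₂ ∈ W := by rw [hu₂eq]; exact W.mul_mem huW hu₁W
  have hWU : W ≤ U := sup_le (by rwa [Subgroup.zpowers_le]) (by rwa [Subgroup.zpowers_le])
  have huu : u * u = 1 := EA2.sq hV (hUV huU)
  have hu₁u₁ : u₁ * u₁ = 1 := EA2.sq hV (hUV hu₁U)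
  have hW4 : Nat.card W = 4 := by
    have hn : Subgroup.zpowers u ≤ Subgroup.normalizer (Subgroup.zpowers u₁ : Set G) := by
      refine le_trans ?_ (centralizer_le_normalizer' _)
      rw [Subgroup.zpowers_le, Subgroup.mem_centralizer_iff]
      intro y hy
      obtain ⟨m, rfl⟩ := Subgroup.mem_zpowers_iff.mp hy
      exact ((show Commute u₁ u from EA2.comm hV (hUV hu₁U) (hUV huU)).zpow_left m).eq
    have h1 := Cfsg.Agent.Lib.Helper5.card_sup_mul_card_inf _ _ hn
    have h2 : Subgroup.zpowers u ⊓ Subgroup.zpowers u₁ = ⊥ := by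
      rw [eq_bot_iff]
      intro y hy
      rw [Subgroup.mem_bot]
      rcases eq_one_or_eq_of_mem_zpowers huu hy.1 with h | h
      · exact h
      · rcases eq_one_or_eq_of_mem_zpowers hu₁u₁ hy.2 with h' | h'
        · exact h'
        · exact absurd (h'.symm.trans h) hne
    rw [h2, Subgroup.card_bot, mul_one, Nat.card_zpowers, Nat.card_zpowers,
      orderOf_eq_prime (by rw [pow_two]; exact huu) hu1,
      orderOf_eq_prime (by rw [pow_two]; exact hu₁u₁) hu₁1] at h1
    exact h1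
  have hxW : x ∈ Subgroup.normalizer (W : Set G) :=
    mem_normalizer_sup_zpowers hu₁W hu₂W
  have hau₁ : a * u₁ * a⁻¹ = u₂ := by
    have e1 : a * u₁ * a⁻¹ = (a * x * a⁻¹) * (a * u * a⁻¹) * (a * x * a⁻¹)⁻¹ := by
      rw [hu₁]; group
    have e2 : a * u * a⁻¹ = u := by rw [hau]; group
    rw [e1, hinv, e2, inv_inv, ← hu₃]
    group
  have haW : a ∈ Subgroup.normalizer (W : Set G) := by
    apply mem_normalizer_sup_zpowers
    · have e2 : a * u * a⁻¹ = u := by rw [hau]; group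
      rw [e2]; exact huW
    · rw [hau₁]; exact hu₂W
  set D := Subgroup.zpowers a ⊔ Q with hD
  have hDW : D ≤ Subgroup.normalizer (W : Set G) :=
    sup_le (by rwa [Subgroup.zpowers_le]) (by rwa [hQ, Subgroup.zpowers_le])
  have hDQ : D ≤ Subgroup.normalizer (Q : Set G) := sup_le haQ Subgroup.le_normalizer
  have hQW : Q ⊓ W = ⊥ := by
    apply disjoint_iff.mp
    apply Subgroup.disjoint_of_coprime_natCard
    rw [hQcard, hW4]; decide
  have hDWbot : D ⊓ W = ⊥ := by
    rw [eq_bot_iff]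
    intro w hw
    rw [Subgroup.mem_bot]
    apply hCU w (hWU hw.2)
    have h1 : w * x * w⁻¹ * x⁻¹ ∈ Q ⊓ W := by
      constructor
      · exact Q.mul_mem (conj_mem_of_le_normalizer hDQ hw.1 hxm) (Q.inv_mem hxm)
      · have e : w * x * w⁻¹ * x⁻¹ = w * (x * w⁻¹ * x⁻¹) := by group
        rw [e]
        exact W.mul_mem hw.2 (conj_mem_of_le_normalizer
          (show Q ≤ Subgroup.normalizer (W : Set G) by rwa [hQ, Subgroup.zpowers_le]) hxm
          (W.inv_mem hw.2))
    rw [hQW, Subgroup.mem_bot] at h1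
    calc x * w = (w * x * w⁻¹ * x⁻¹)⁻¹ * (w * x) := by group
      _ = w * x := by rw [h1, inv_one, one_mul]
  refine involves_perm4_of_config hW4 hDW hDWbot
    (le_sup_right (a := Subgroup.zpowers a) hxm)
    (le_sup_left (b := Q) (Subgroup.mem_zpowers a)) ho ha ?_ ?_
  · intro h
    apply hne
    have := Subgroup.mem_centralizer_iff.mp h u huW
    rw [hu₁, ← this]; group
  · intro h
    apply hne2
    have := Subgroup.mem_centralizer_iff.mp h u₁ hu₁W
    rw [← hau₁, ← this]; group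

end Cfsg.Agent.Lib.Helper17
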