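import Cfsg.Agent.Lib.Helper17.WC2

set_option autoImplicit false

namespace Cfsg.Agent.Lib.Helper17

open Cfsg

variable {G : Type*} [Group G]

/-- Thompson transfer for a central involution of a Sylow 2-subgroup fixed by `N_G(S)` -/
theorem exists_index_two_of_central [Finite G] (S : Sylow 2 G) (M : Subgroup G)
    (hMS : M ≤ (S : Subgroup G)) (hidx : M.relIndex (S : Subgroup G) = 2) (z : G)
    (hzS : z ∈ (S : Subgroup G)) (hzc : ∀ s ∈ (S : Subgroup G), s * z = z * s) (hz2 : z ^ 2 = 1)
    (hzM : z ∉ M)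
    (hN : ∀ g ∈ Subgroup.normalizer ((S : Subgroup G) : Set G), g * z * g⁻¹ = z) :
    ∃ N : Subgroup G, N.Normal ∧ N.index = 2 ∧ z ∉ N := by
  classical
  have : Fintype (G ⧸ M) := Fintype.ofFinite _
  have hMn : (S : Subgroup G) ≤ Subgroup.normalizer (M : Set G) := by
    rw [← Subgroup.normal_subgroupOf_iff_le_normalizer hMS]
    exact Subgroup.normal_of_index_eq_two hidx
  let PM : G ⧸ (S : Subgroup G) → Prop := fun q => q.out⁻¹ * z * q.out ∈ M
  have hPM : ∀ g : G, PM (QuotientGroup.mk g) ↔ g⁻¹ * z * g ∈ M := by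
    intro g
    obtain ⟨s, hs⟩ := QuotientGroup.mk_out_eq_mul (S : Subgroup G) g
    show (QuotientGroup.mk g : G ⧸ (S : Subgroup G)).out⁻¹ * z *
      (QuotientGroup.mk g : G ⧸ (S : Subgroup G)).out ∈ M ↔ _
    rw [hs]
    have e : (g * (s : G))⁻¹ * z * (g * s) = (s : G)⁻¹ * (g⁻¹ * z * g) * ((s : G)⁻¹)⁻¹ := by group
    rw [e]
    constructor
    · intro h
      have := conj_mem_of_le_normalizer hMn s.2 h
      have e2 : (s : G) * ((s : G)⁻¹ * (g⁻¹ * z * g) * ((s : G)⁻¹)⁻¹) * (s : G)⁻¹ = g⁻¹ * z * g := by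
        group
      rwa [e2] at this
    · intro h
      exact conj_mem_of_le_normalizer hMn (inv_mem s.2) h
  -- the `S`-set of cosets `gS` with `g⁻¹ z g ∈ M`
  let X : SubMulAction ↥(S : Subgroup G) (G ⧸ (S : Subgroup G)) :=
    { carrier := {q | PM q}
      smul_mem' := by
        intro s q hq
        induction q using QuotientGroup.induction_on with
        | H g =>
          have hq' : g⁻¹ * z * g ∈ M := (hPM g).mp hq
          show PM (QuotientGroup.mk ((s : G) * g))
          rw [hPM]
          have e : ((s : G) * g)⁻¹ * z * (s * g) = g⁻¹ * ((s : G)⁻¹ * (z * s)) * g := by group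
          rw [e, ← hzc s s.2]
          have e2 : g⁻¹ * ((s : G)⁻¹ * (s * z)) * g = g⁻¹ * z * g := by group
          rwa [e2] }
  have hXeven : 2 ∣ Nat.card X := by
    have hmod := (S.isPGroup').card_modEq_card_fixedPoints (α := X)
    have hempty : IsEmpty (MulAction.fixedPoints ↥(S : Subgroup G) X) := by
      constructor
      rintro ⟨⟨q, hq⟩, hfix⟩
      induction q using QuotientGroup.induction_on with
      | H g =>
        have hq' : g⁻¹ * z * g ∈ M := (hPM g).mp hq
        have h1 : ∀ s ∈ (S : Subgroup G), g⁻¹ * s * g ∈ (S : Subgroup G) := by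
          intro s hs
          have h2 := congrArg Subtype.val (hfix ⟨s, hs⟩)
          have h3 : (QuotientGroup.mk (s * g) : G ⧸ (S : Subgroup G)) = QuotientGroup.mk g := h2
          rw [QuotientGroup.eq] at h3
          have h4 := (S : Subgroup G).inv_mem h3
          have e : ((s * g)⁻¹ * g)⁻¹ = g⁻¹ * s * g := by group
          rwa [e] at h4
        have h2 : (S : Subgroup G).map (MulAut.conj g⁻¹).toMonoidHom ≤ S := by
          rintro _ ⟨s, hs, rfl⟩
          have := h1 s hs
          simpa using this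
        have h3 : g⁻¹ ∈ Subgroup.normalizer ((S : Subgroup G) : Set G) :=
          mem_normalizer_iff_map_conj.mpr (map_conj_eq_of_le h2)
        have h4 := hN g⁻¹ h3
        rw [inv_inv] at h4
        rw [h4] at hq'
        exact hzM hq'
    have h0 : Nat.card (MulAction.fixedPoints ↥(S : Subgroup G) X) = 0 := Nat.card_of_isEmpty
    rw [h0] at hmod
    exact (Nat.modEq_zero_iff_dvd).mp hmod
  let φ : G →* Equiv.Perm (G ⧸ M) := MulAction.toPermHom G (G ⧸ M)
  let ψ : G →* ℤˣ := Equiv.Perm.sign.comp φ
  have hfixiff : ∀ x : G ⧸ M, φ z x = x ↔ PM (Subgroup.quotientEquivProdOfLE hMS x).1 := by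
    intro x
    induction x using QuotientGroup.induction_on with
    | H g =>
      have e1 : (Subgroup.quotientEquivProdOfLE hMS (QuotientGroup.mk g)).1 =
        (QuotientGroup.mk g : G ⧸ (S : Subgroup G)) := rfl
      rw [e1, hPM]
      have e2 : φ z (QuotientGroup.mk g) = (QuotientGroup.mk (z * g) : G ⧸ M) := rfl
      rw [e2, QuotientGroup.eq]
      have e3 : (z * g)⁻¹ * g = (g⁻¹ * z * g)⁻¹ := by group
      rw [e3, inv_mem_iff]
  have hfixcard : (Finset.univ.filter (fun x : G ⧸ M => φ z x = x)).card = Nat.card X * 2 := by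
    have h1 : Nat.card {x : G ⧸ M // φ z x = x} =
        (Finset.univ.filter (fun x : G ⧸ M => φ z x = x)).card := by
      apply Nat.subtype_card
      intro x
      simp
    rw [← h1]
    have h2 : Nat.card {x : G ⧸ M // φ z x = x} =
        Nat.card ({q : G ⧸ (S : Subgroup G) // PM q} ×
          ((S : Subgroup G) ⧸ M.subgroupOf (S : Subgroup G))) :=
      Nat.card_congr (((Subgroup.quotientEquivProdOfLE hMS).subtypeEquiv hfixiff).trans
        Equiv.prodSubtypeFstEquivSubtypeProd)
    rw [h2, Nat.card_prod]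
    congr 1
  have hne : φ z ≠ 1 := by
    intro h
    have h1 : φ z (QuotientGroup.mk 1) = (QuotientGroup.mk 1 : G ⧸ M) := by rw [h]; rfl
    have e2 : φ z (QuotientGroup.mk 1) = (QuotientGroup.mk (z * 1) : G ⧸ M) := rfl
    rw [e2, QuotientGroup.eq] at h1
    apply hzM
    have := M.inv_mem h1
    simpa using this
  have hord : orderOf (φ z) = 2 := by
    apply orderOf_eq_prime
    · rw [← map_pow, hz2, map_one]
    · exact hne
  obtain ⟨n, hn⟩ := Equiv.Perm.cycleType_prime_order (σ := φ z) (by rw [hord]; exact Nat.prime_two)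
  rw [hord] at hn
  have hsum := Equiv.Perm.sum_cycleType (φ z)
  rw [hn, Multiset.sum_replicate] at hsum
  have hsupp : (φ z).support = Finset.univ.filter (fun x : G ⧸ M => ¬ φ z x = x) := by
    ext x
    simp [Equiv.Perm.mem_support]
  have htot := Finset.card_filter_add_card_filter_not (s := (Finset.univ : Finset (G ⧸ M)))
    (fun x => φ z x = x)
  rw [← hsupp, hfixcard, ← hsum, Finset.card_univ, ← Nat.card_eq_fintype_card] at htot
  have hidx' : Nat.card (G ⧸ M) = 2 * (S : Subgroup G).index := by
    have := Subgroup.relIndex_mul_index hMS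
    rw [hidx] at this
    rw [this]; rfl
  have hodd : ¬ 2 ∣ (S : Subgroup G).index := S.not_dvd_index
  have hsign : ψ z = -1 := by
    show Equiv.Perm.sign (φ z) = -1
    rw [Equiv.Perm.sign_of_cycleType, hn, Multiset.sum_replicate, Multiset.card_replicate]
    have : Odd ((n + 1) • 2 + (n + 1)) := by
      obtain ⟨k, hk⟩ := hXeven
      rw [hidx', hk] at htot
      simp only [smul_eq_mul] at htot ⊢
      exact Nat.odd_iff.mpr (by omega)
    exact this.neg_one_pow
  refine ⟨ψ.ker, inferInstance, ?_, ?_⟩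
  · rw [Subgroup.index_ker]
    have hr : ψ.range = ⊤ := by
      rw [eq_top_iff]
      intro x _
      rcases Int.units_eq_one_or x with rfl | rfl
      · exact one_mem _
      · exact ⟨z, hsign⟩
    rw [hr]
    simp
  · rw [MonoidHom.mem_ker, hsign]
    decide

end Cfsg.Agent.Lib.Helper17
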